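import Cfsg.Agent.Lib.HJType.AltFive

/-!
# Facts on `Z₂ × A₅` for the weak-closure characterisation of J₁
-/

set_option autoImplicit false
set_option maxHeartbeats 400000
set_option synthInstance.maxSize 2048

namespace Cfsg.Agent.J1WeakClosure

open Cfsg.Agent.HJType.AltFive (A5 v0 v1 h3)

/-- The four-group of `A₅`. -/
def V0 : Subgroup A5 :=
  { carrier := {a | a = 1 ∨ a = v0 ∨ a = v1 ∨ a = v0 * v1}
    one_mem' := Or.inl rfl
    mul_mem' := by
      have key : ∀ a b : A5, (a = 1 ∨ a = v0 ∨ a = v1 ∨ a = v0 * v1) →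
          (b = 1 ∨ b = v0 ∨ b = v1 ∨ b = v0 * v1) →
          (a * b = 1 ∨ a * b = v0 ∨ a * b = v1 ∨ a * b = v0 * v1) := by decide +kernel
      exact fun {a b} ha hb => key a b ha hb
    inv_mem' := by
      have key : ∀ a : A5, (a = 1 ∨ a = v0 ∨ a = v1 ∨ a = v0 * v1) →
          (a⁻¹ = 1 ∨ a⁻¹ = v0 ∨ a⁻¹ = v1 ∨ a⁻¹ = v0 * v1) := by decide +kernel
      exact fun {a} ha => key a ha }

theorem mem_V0 {a : A5} : a ∈ V0 ↔ a = 1 ∨ a = v0 ∨ a = v1 ∨ a = v0 * v1 := Iff.rfl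

theorem v0_mem : v0 ∈ V0 := Or.inr (Or.inl rfl)

theorem v1_mem : v1 ∈ V0 := Or.inr (Or.inr (Or.inl rfl))

theorem V0_sq : ∀ a : A5, a ∈ V0 → a * a = 1 := by
  have key : ∀ a : A5, (a = 1 ∨ a = v0 ∨ a = v1 ∨ a = v0 * v1) → a * a = 1 := by decide +kernel
  exact key

theorem V0_comm : ∀ a b : A5, a ∈ V0 → b ∈ V0 → a * b = b * a := by
  have key : ∀ a b : A5, (a = 1 ∨ a = v0 ∨ a = v1 ∨ a = v0 * v1) →
      (b = 1 ∨ b = v0 ∨ b = v1 ∨ b = v0 * v1) → a * b = b * a := by decide +kernel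
  exact key

theorem card_V0 : Nat.card V0 = 4 := by
  have e : {a : A5 // a = 1 ∨ a = v0 ∨ a = v1 ∨ a = v0 * v1} ≃ V0 := Equiv.refl _
  rw [← Nat.card_congr e, Nat.card_eq_fintype_card]
  decide +kernel

theorem centralizer_V0 : ∀ a : A5, a * v0 = v0 * a → a * v1 = v1 * a → a ∈ V0 := by
  have key : ∀ a : A5, a * v0 = v0 * a → a * v1 = v1 * a →
      (a = 1 ∨ a = v0 ∨ a = v1 ∨ a = v0 * v1) := by decide +kernel
  exact key

theorem h3_normalizes : ∀ a : A5, a ∈ V0 → h3 * a * h3⁻¹ ∈ V0 := by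
  have key : ∀ a : A5, (a = 1 ∨ a = v0 ∨ a = v1 ∨ a = v0 * v1) →
      (h3 * a * h3⁻¹ = 1 ∨ h3 * a * h3⁻¹ = v0 ∨ h3 * a * h3⁻¹ = v1 ∨ h3 * a * h3⁻¹ = v0 * v1) := by
    decide +kernel
  exact key

theorem h3_fixes : ∀ a : A5, a ∈ V0 → h3 * a * h3⁻¹ = a → a = 1 := by
  have key : ∀ a : A5, (a = 1 ∨ a = v0 ∨ a = v1 ∨ a = v0 * v1) → h3 * a * h3⁻¹ = a → a = 1 := by
    decide +kernel
  exact key

/-- The conjugates of an element of `V₀#` under `⟨h3⟩` fill up `V₀#`. -/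
theorem h3_orbit : ∀ a b : A5, a ∈ V0 → a ≠ 1 → b ∈ V0 → b ≠ 1 →
    ∃ i : Fin 3, h3 ^ (i : ℕ) * a * (h3 ^ (i : ℕ))⁻¹ = b := by
  have key : ∀ a : A5, (a = 1 ∨ a = v0 ∨ a = v1 ∨ a = v0 * v1) → a ≠ 1 →
      ∀ b : A5, (b = 1 ∨ b = v0 ∨ b = v1 ∨ b = v0 * v1) → b ≠ 1 →
      ∃ i : Fin 3, h3 ^ (i : ℕ) * a * (h3 ^ (i : ℕ))⁻¹ = b := by decide +kernel
  exact fun a b ha ha1 hb hb1 => key a ha ha1 b hb hb1

theorem inv_conj_mem : ∀ a : A5, a * a = 1 → ∃ c : A5, c * a * c⁻¹ ∈ V0 := by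
  intro a ha
  by_cases h : a = 1
  · exact ⟨1, by simp [h]⟩
  · obtain ⟨c, hc⟩ := HJType.AltFive.inv_conj a ha h
    exact ⟨c, hc ▸ v0_mem⟩

/-- An automorphism of `A₅` fixing `V₀` pointwise is inner by an element of `V₀`. -/
theorem fixing_V0 {f : A5 →* A5} (hf : Function.Injective f) (h0 : f v0 = v0) (h1 : f v1 = v1) :
    ∃ a ∈ V0, ∀ x, f x = a * x * a⁻¹ := by
  have key : ∀ y : A5, y * (y * y) = 1 → y * v0 * y⁻¹ = h3 * v0 * h3⁻¹ →
      y * v1 * y⁻¹ = h3 * v1 * h3⁻¹ → ∃ a ∈ [1, v0, v1, v0 * v1], y = a * h3 * a⁻¹ := by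
    decide +kernel
  have hfix : ∀ a ∈ V0, f a = a := by
    intro a ha
    rcases ha with rfl | rfl | rfl | rfl
    · exact map_one f
    · exact h0
    · exact h1
    · rw [map_mul, h0, h1]
  have hv0 := h3_normalizes _ v0_mem
  have hv1 := h3_normalizes _ v1_mem
  obtain ⟨a, ha, hy⟩ := key (f h3)
    (by rw [← map_mul, ← map_mul, HJType.AltFive.h3_three.1, map_one])
    (by conv_lhs => rw [← h0, ← map_inv, ← map_mul, ← map_mul, hfix _ hv0])
    (by conv_lhs => rw [← h1, ← map_inv, ← map_mul, ← map_mul, hfix _ hv1])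
  have haV : a ∈ V0 := by simpa [mem_V0] using ha
  have hcomm : ∀ b ∈ V0, a⁻¹ * b * a = b := fun b hb => by
    rw [mul_assoc, V0_comm b a hb haV, inv_mul_cancel_left]
  refine ⟨a, haV, fun x => ?_⟩
  let g : A5 →* A5 := (MulAut.conj a⁻¹).toMonoidHom.comp f
  have hgdef : ∀ y, g y = a⁻¹ * f y * a := fun y => by simp [g]
  have hg : g x = x := by
    refine HJType.AltFive.rigid (MulEquiv.refl A5) (a := v0) (b := v1) (e := h3) (by decide +kernel)
      (by decide +kernel) (by decide +kernel) (by decide +kernel) (by decide +kernel) (by decide +kernel)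
      HJType.AltFive.h3_three.1 HJType.AltFive.h3_three.2 (by decide +kernel) (by decide +kernel) g
      ((MulAut.conj a⁻¹).injective.comp hf) ?_ ?_ ?_ x
    · rw [hgdef, h0, hcomm _ v0_mem]
    · rw [hgdef, h1, hcomm _ v1_mem]
    · rw [hgdef, hy]; group
  rw [hgdef] at hg
  calc f x = a * (a⁻¹ * f x * a) * a⁻¹ := by group
    _ = a * x * a⁻¹ := by rw [hg]

/-- A subgroup of `A₅` of odd order that is normal is trivial; `A₅` is perfect. -/
theorem A5_perfect : commutator A5 = ⊤ := by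
  haveI : IsSimpleGroup A5 := alternatingGroup.isSimpleGroup_five
  refine ((Subgroup.Normal.eq_bot_or_eq_top (inferInstance : (commutator A5).Normal)).resolve_left ?_)
  intro h
  have := (Subgroup.commutator_eq_bot_iff_le_centralizer).mp h (Subgroup.mem_top v0) h3 (Subgroup.mem_top _)
  revert this
  decide +kernel

end Cfsg.Agent.J1WeakClosure
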