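import Cfsg.Agent.Lib.J1WeakClosure.Normalizer

/-!
# Passing the hypothesis to subgroups and to central quotients
-/

set_option autoImplicit false

namespace Cfsg.Agent.J1WeakClosure

open Cfsg.Agent.HJType.AltFive (A5 v0 v1 h3)
open Subgroup

namespace Setup

variable {G : Type*} [Group G] [Finite G] (D : Setup G)

/-- The subgroup generated by `N(E)` and `C(t)`. -/
def M : Subgroup G := D.NE ⊔ D.C

/-- `G` is generated by `N(E)` and `C(t)`. -/
def Generated : Prop := D.M = ⊤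

omit [Finite G] in
theorem NE_le_M : D.NE ≤ D.M := le_sup_left

omit [Finite G] in
theorem C_le_M : D.C ≤ D.M := le_sup_right

omit [Finite G] in
theorem range_le_M : D.f.range ≤ D.M := D.range_le_C.trans D.C_le_M

theorem exists_move : ∃ n ∈ D.NE, n * D.t ≠ D.t * n := by
  obtain ⟨m, hm, hme⟩ := D.transitive (D.iA_mem_E v0_mem) fun h =>
    absurd (D.iA_inj (h.trans (map_one D.iA).symm)) (by decide +kernel)
  refine ⟨m, hm, fun h => ?_⟩
  rw [h, mul_inv_cancel_right, ← D.f_t, iA_apply] at hme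
  exact absurd (congrArg Prod.snd (D.f_inj hme)) (by decide +kernel)

theorem range_not_center {x : G} (hx : x ∈ D.f.range) (hc : ∀ a : G, a ∈ D.f.range ∨ a ∈ D.NE → a * x = x * a) :
    x = 1 := by
  obtain ⟨⟨i, a⟩, rfl⟩ := hx
  have key : ∀ a : A5, h3 * a = a * h3 → v0 * a = a * v0 → a = 1 := by decide +kernel
  have h1 : ∀ b, b * a = a * b := fun b => by
    have h := hc (D.iA b) (Or.inl ⟨_, rfl⟩)
    rw [iA_apply, ← map_mul, ← map_mul] at h
    simpa using congrArg Prod.snd (D.f_inj h)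
  have ha : a = 1 := key a (h1 _) (h1 _)
  subst ha
  rcases D.f_eq i 1 with h | h
  · rw [h, map_one]
  · exfalso
    obtain ⟨n, hn, hne⟩ := D.exists_move
    have := hc n (Or.inr hn)
    rw [h, map_one, mul_one] at this
    exact hne this

/-- A 2-subgroup containing `E` centralizes it. -/
theorem two_group_le_CE {P : Subgroup G} (hP : IsPGroup 2 P) (hEP : D.E ≤ P) : P ≤ D.CE := fun x hx => by
  obtain ⟨k, hk⟩ := hP ⟨x, hx⟩
  have h : x ^ (2 ^ k) = 1 := congrArg Subtype.val hk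
  refine D.mem_CE_of_pow_two k (D.weakly_closed hP hEP fun e he => ?_) (h ▸ D.CE.one_mem)
  exact P.mul_mem (P.mul_mem hx (hEP he)) (P.inv_mem hx)

omit [Finite G] in
theorem CE_inf_range {x : G} (hx : x ∈ D.CE) (hr : x ∈ D.f.range) : x ∈ D.E := by
  obtain ⟨⟨i, a⟩, rfl⟩ := hr
  have key : ∀ b ∈ V0, a * b = b * a := fun b hb => by
    have h := D.CE_comm hx (D.iA_mem_E hb)
    rw [iA_apply, ← map_mul, ← map_mul] at h
    simpa using (congrArg Prod.snd (D.f_inj h)).symm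
  exact D.f_mem_E (centralizer_V0 a (key _ v0_mem) (key _ v1_mem))

/-- A central element times a conjugate of `t` is a conjugate of `t` only if it is trivial. -/
theorem central_unique {z x : G} (hz : z ∈ center G) (hx : x ∈ D.T) (hxz : x * z ∈ D.T) : z = 1 := by
  obtain ⟨m, rfl⟩ := hx
  have hz' : ∀ a : G, a * z = z * a := fun a => mem_center_iff.1 hz a
  have h := D.conj_mem_T hxz m⁻¹
  have e : m⁻¹ * (m * D.t * m⁻¹ * z) * m⁻¹⁻¹ = D.t * z := by
    rw [mul_assoc (m * D.t) m⁻¹ z, hz' m⁻¹]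
    group
  rw [e] at h
  have hr : D.t * z ∈ D.f.range := D.T_comm_mem h (D.mem_C.2 (by rw [mul_assoc, ← hz' D.t]))
  have ht : D.t ∈ D.f.range := ⟨_, D.f_t⟩
  exact D.range_not_center ((D.f.range.mul_mem_cancel_left ht).1 hr) fun a _ => hz' a

section Sub

variable (H : Subgroup G) (hf : D.f.range ≤ H) (hmove : ∃ h ∈ H, h ∈ D.NE ∧ h * D.t ≠ D.t * h)

omit [Finite G] in
theorem t_mem_of_range {H : Subgroup G} (hf : D.f.range ≤ H) : D.t ∈ H := hf ⟨_, D.f_t⟩

/-- The hypothesis in a subgroup containing `Z₂ × A₅` and moving `t` inside `N(E)`. -/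
def sub : Setup H where
  t := ⟨D.t, D.t_mem_of_range hf⟩
  f := D.f.codRestrict H fun x => hf ⟨x, rfl⟩
  f_inj := fun a b h => D.f_inj (congrArg Subtype.val h)
  f_t := Subtype.ext D.f_t
  two_central := by
    haveI : Fact (Nat.Prime 2) := ⟨Nat.prime_two⟩
    have hEH : D.E ≤ H := D.E_le_range.trans hf
    obtain ⟨Q, hQ⟩ := (D.E_isPGroup.comap_of_injective H.subtype H.subtype_injective).exists_le_sylow
    refine ⟨by rw [Subgroup.orderOf_mk]; exact D.orderOf_t, Q, hQ (show D.t ∈ D.E from D.t_mem_E), fun x hx => ?_⟩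
    have hle := D.two_group_le_CE (Q.isPGroup'.map H.subtype) fun e he => ⟨⟨e, hEH he⟩, hQ he, rfl⟩
    exact Subtype.ext (D.mem_C.1 (D.CE_le_C (hle ⟨x, hx, rfl⟩)))
  conj_mem := fun g hg => by
    obtain ⟨x, hx⟩ := D.conj_mem (g : G) (congrArg Subtype.val hg)
    exact ⟨x, Subtype.ext hx⟩
  moved := by
    obtain ⟨h, hH, hN, hne⟩ := hmove
    refine ⟨⟨h, hH⟩, Subtype.ext (D.E_comm (D.conj_mem_E hN D.t_mem_E) D.t_mem_E), fun e => hne ?_⟩
    have e' : h * D.t * h⁻¹ = D.t := congrArg Subtype.val e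
    calc h * D.t = h * D.t * h⁻¹ * h := by group
      _ = D.t * h := by rw [e']

theorem mem_sub_E {x : H} : x ∈ (D.sub H hf hmove).E ↔ (x : G) ∈ D.E := by
  constructor
  · rintro ⟨p, hp, rfl⟩; exact ⟨p, hp, rfl⟩
  · rintro ⟨p, hp, e⟩; exact ⟨p, hp, Subtype.ext e⟩

theorem sub_NE_le {x : H} (hx : x ∈ (D.sub H hf hmove).NE) : (x : G) ∈ D.NE :=
  D.weakly_closed D.E_isPGroup le_rfl fun e he => by
    have := (D.sub H hf hmove).conj_mem_E hx
      (show (⟨e, D.E_le_range.trans hf he⟩ : H) ∈ (D.sub H hf hmove).E from (D.mem_sub_E H hf hmove).2 he)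
    exact (D.mem_sub_E H hf hmove).1 this

/-- A generated subgroup lies in `⟨N(E), C(t)⟩`. -/
theorem sub_le_M (hgen : (D.sub H hf hmove).Generated) : H ≤ D.M := by
  intro x hx
  have h : (⟨x, hx⟩ : H) ∈ (D.sub H hf hmove).M := hgen ▸ mem_top _
  have hle : (D.sub H hf hmove).M ≤ D.M.comap H.subtype := sup_le
    (fun y hy => D.NE_le_M (D.sub_NE_le H hf hmove hy))
    (fun y hy => D.C_le_M (D.mem_C.2 (congrArg Subtype.val ((D.sub H hf hmove).mem_C.1 hy))))
  exact hle h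

end Sub

theorem move_in_M : ∃ h ∈ D.M, h ∈ D.NE ∧ h * D.t ≠ D.t * h := by
  obtain ⟨n, hn, hne⟩ := D.exists_move
  exact ⟨n, D.NE_le_M hn, hn, hne⟩

/-- The hypothesis in `⟨N(E), C(t)⟩`. -/
def subM : Setup D.M := D.sub D.M D.range_le_M D.move_in_M

theorem mem_subM_NE {x : D.M} (hx : (x : G) ∈ D.NE) : x ∈ D.subM.NE :=
  D.subM.weakly_closed D.subM.E_isPGroup le_rfl fun _e he =>
    (D.mem_sub_E D.M D.range_le_M D.move_in_M).2
      (D.conj_mem_E hx ((D.mem_sub_E D.M D.range_le_M D.move_in_M).1 he))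

theorem subM_generated : D.subM.Generated := by
  refine eq_top_iff.2 fun x _ => ?_
  have key : D.NE.subgroupOf D.M ⊔ D.C.subgroupOf D.M ≤ D.subM.M := sup_le
    (fun y hy => D.subM.NE_le_M (D.mem_subM_NE hy))
    (fun y hy => D.subM.C_le_M (D.subM.mem_C.2 (Subtype.ext (D.mem_C.1 hy))))
  refine key ?_
  rw [← subgroupOf_sup D.NE_le_M D.C_le_M]
  exact x.2

section Quotient

variable (Z : Subgroup G) [Z.Normal] (hZ : Z ≤ center G)

omit [Finite G] in
theorem Z_central {w a : G} (hZ : Z ≤ center G) (hw : w ∈ Z) : a * w = w * a := mem_center_iff.1 (hZ hw) a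

/-- The hypothesis in a quotient by a central subgroup. -/
def quot : Setup (G ⧸ Z) where
  t := QuotientGroup.mk' Z D.t
  f := (QuotientGroup.mk' Z).comp D.f
  f_inj := by
    rw [← MonoidHom.ker_eq_bot_iff, eq_bot_iff]
    intro x hx
    have h : D.f x ∈ Z := (QuotientGroup.eq_one_iff _).1 hx
    exact mem_bot.2 (D.f_inj ((D.range_not_center ⟨x, rfl⟩ fun a _ => Z_central Z hZ h).trans (map_one _).symm))
  f_t := by rw [MonoidHom.comp_apply, D.f_t]
  two_central := by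
    haveI : Fact (Nat.Prime 2) := ⟨Nat.prime_two⟩
    obtain ⟨-, P, htP, hP⟩ := D.two_central
    refine ⟨orderOf_eq_prime (by rw [pow_two, ← map_mul, D.t_sq, map_one]) fun h => ?_,
      P.mapSurjective (QuotientGroup.mk'_surjective Z), ⟨D.t, htP, rfl⟩, ?_⟩
    · have h' : D.t ∈ Z := (QuotientGroup.eq_one_iff _).1 h
      exact D.t_ne (D.range_not_center ⟨_, D.f_t⟩ fun a _ => Z_central Z hZ h')
    · rintro _ ⟨x, hx, rfl⟩
      rw [← map_mul, hP x hx, map_mul]
  conj_mem := fun g hg => by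
    obtain ⟨a, rfl⟩ := QuotientGroup.mk'_surjective Z g
    set u := a * D.t * a⁻¹ with hu
    rw [← map_inv, ← map_mul, ← map_mul] at hg ⊢
    rw [← hu] at hg ⊢
    rw [← map_mul, ← map_mul, QuotientGroup.mk'_eq_mk'] at hg
    obtain ⟨w, hw, hwe⟩ := hg
    have hu2 : u * u = 1 := D.T_sq ⟨a, rfl⟩
    have h1 : D.t * w = u⁻¹ * D.t * u⁻¹⁻¹ := by
      calc D.t * w = u⁻¹ * (u * D.t * w) := by group
        _ = u⁻¹ * (D.t * u) := by rw [hwe]
        _ = _ := by group
    have hw1 : w = 1 := D.central_unique (hZ hw) D.t_mem_T (h1 ▸ D.conj_mem_T D.t_mem_T u⁻¹)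
    rw [hw1, mul_one] at hwe
    obtain ⟨x, hx⟩ := D.conj_mem a hwe
    exact ⟨x, congrArg (QuotientGroup.mk' Z) hx⟩
  moved := by
    obtain ⟨g, hg, hne⟩ := D.moved
    refine ⟨QuotientGroup.mk' Z g, ?_, fun h => hne ?_⟩
    · rw [← map_inv, ← map_mul, ← map_mul, ← map_mul, hg]; simp only [map_mul]
    · rw [← map_inv, ← map_mul, ← map_mul, QuotientGroup.mk'_eq_mk'] at h
      obtain ⟨w, hw, hwe⟩ := h
      have := D.central_unique (hZ hw) ⟨g, rfl⟩ (by rw [hwe]; exact D.t_mem_T)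
      rwa [this, mul_one] at hwe

theorem quot_NE_le {x : G} (hx : QuotientGroup.mk' Z x ∈ (D.quot Z hZ).NE) : x ∈ D.NE :=
  D.weakly_closed D.E_isPGroup le_rfl fun e he => by
    by_cases he1 : e = 1
    · simp [he1, D.E.one_mem]
    have hq : QuotientGroup.mk' Z e ∈ (D.quot Z hZ).E := by
      obtain ⟨q, hq, rfl⟩ := he
      exact ⟨q, hq, rfl⟩
    have := (D.quot Z hZ).conj_mem_E hx hq
    obtain ⟨p, hp, hpe⟩ := this
    change QuotientGroup.mk' Z (D.f p) = _ at hpe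
    rw [← map_inv, ← map_mul, ← map_mul, QuotientGroup.mk'_eq_mk'] at hpe
    obtain ⟨w, hw, hwe⟩ := hpe
    have hpE : D.f p ∈ D.E := ⟨p, hp, rfl⟩
    have hp1 : D.f p ≠ 1 := by
      intro h1
      rw [h1, one_mul] at hwe
      apply he1
      have hr : x⁻¹ * w * x⁻¹⁻¹ = e := by rw [hwe]; group
      rw [Z_central Z hZ hw, mul_inv_cancel_right] at hr
      exact D.range_not_center (D.E_le_range he) fun a _ => hr ▸ Z_central Z hZ hw
    have := D.central_unique (hZ hw) (D.mem_T_of_E hpE hp1)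
      (hwe ▸ D.conj_mem_T (D.mem_T_of_E he he1) x)
    rw [this, mul_one] at hwe
    exact hwe ▸ hpE

theorem generated_of_quot (hgen : (D.quot Z hZ).Generated) : D.Generated := by
  refine eq_top_iff.2 fun x _ => ?_
  have hZM : Z ≤ D.M := fun w hw => D.C_le_M (D.mem_C.2 (Z_central Z hZ hw).symm)
  have key : (D.quot Z hZ).M ≤ D.M.map (QuotientGroup.mk' Z) := by
    refine sup_le (fun y hy => ?_) (fun y hy => ?_)
    · obtain ⟨a, rfl⟩ := QuotientGroup.mk'_surjective Z y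
      exact ⟨a, D.NE_le_M (D.quot_NE_le Z hZ hy), rfl⟩
    · obtain ⟨a, rfl⟩ := QuotientGroup.mk'_surjective Z y
      refine ⟨a, D.C_le_M (D.mem_C.2 ?_), rfl⟩
      have h := (D.quot Z hZ).mem_C.1 hy
      change QuotientGroup.mk' Z a * QuotientGroup.mk' Z D.t = QuotientGroup.mk' Z D.t * QuotientGroup.mk' Z a at h
      rw [← map_mul, ← map_mul, QuotientGroup.mk'_eq_mk'] at h
      obtain ⟨w, hw, hwe⟩ := h
      have e : a⁻¹ * D.t * a⁻¹⁻¹ = D.t * w := by
        calc a⁻¹ * D.t * a⁻¹⁻¹ = a⁻¹ * (D.t * a) := by group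
          _ = a⁻¹ * (a * D.t * w) := by rw [hwe]
          _ = D.t * w := by group
      have := D.central_unique (hZ hw) D.t_mem_T (e ▸ D.conj_mem_T D.t_mem_T a⁻¹)
      rwa [this, mul_one] at hwe
  obtain ⟨m, hm, he⟩ := key (hgen ▸ mem_top (QuotientGroup.mk' Z x))
  obtain ⟨w, hw, rfl⟩ := (QuotientGroup.mk'_eq_mk' Z).1 he
  exact D.M.mul_mem hm (hZM hw)

end Quotient

end Setup

end Cfsg.Agent.J1WeakClosure
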