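import Cfsg.Prelude.Def_Spor_J1
import Cfsg.Agent.Lib.J1WeakClosure.Hereditary
import Cfsg.Agent.Lib.Transfer.Burnside
import Cfsg.Agent.Lib.Transfer.Central
import Cfsg.Agent.Lib.Coprime.Generation

/-!
# The perfect case with `R` central: `G ≅ J₁`
-/

set_option autoImplicit false

namespace Cfsg.Agent.J1WeakClosure

open Cfsg.Agent.HJType.AltFive (A5 v0 v1 h3)
open Subgroup

universe u

/-- Janko's characterisation of J₁, taken as an input. -/
def RecJ1 : Prop :=
  ∀ (X : Type u) [Group X] [Finite X] [IsSimpleGroup X] (S : Sylow 2 X),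
    IsMulCommutative (S : Subgroup X) → Nat.card S = 8 → ∀ t : X, orderOf t = 2 →
    Nonempty (↥(centralizer ({t} : Set X)) ≃* Multiplicative (ZMod 2) × A5) →
    Nat.card X = 175560 ∧ Cfsg.Spor.IsoJ1 X

namespace Setup

variable {G : Type u} [Group G] [Finite G] (D : Setup G)

theorem zmod_sq : ∀ i : Multiplicative (ZMod 2), i * i = 1 := by decide

omit [Finite G] in
theorem E_inf_Y {x : G} (hx : x ∈ D.E) (hy : x ∈ D.Y) : x = 1 ∨ x = D.t := by
  obtain ⟨i, a, ha, rfl⟩ := D.mem_E.1 hx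
  have h := D.Y_comm_A hy h3
  rw [iA_apply, ← map_mul, ← map_mul] at h
  have h2 : h3 * a = a * h3 := congrArg Prod.snd (D.f_inj h)
  have ha1 : a = 1 := h3_fixes a ha (by rw [h2, mul_inv_cancel_right])
  subst ha1
  rcases D.f_eq i 1 with h' | h' <;> rw [h'] <;> simp

theorem quot_C (Z : Subgroup G) [Z.Normal] (hZ : Z ≤ center G) {a : G}
    (h : QuotientGroup.mk' Z a ∈ (D.quot Z hZ).C) : a ∈ D.C := by
  have h := (D.quot Z hZ).mem_C.1 h
  change QuotientGroup.mk' Z a * QuotientGroup.mk' Z D.t = QuotientGroup.mk' Z D.t * QuotientGroup.mk' Z a at h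
  rw [← map_mul, ← map_mul, QuotientGroup.mk'_eq_mk'] at h
  obtain ⟨w, hw, hwe⟩ := h
  have e : a⁻¹ * D.t * a⁻¹⁻¹ = D.t * w := by
    calc a⁻¹ * D.t * a⁻¹⁻¹ = a⁻¹ * (D.t * a) := by group
      _ = a⁻¹ * (a * D.t * w) := by rw [hwe]
      _ = D.t * w := by group
  have := D.central_unique (hZ hw) D.t_mem_T (e ▸ D.conj_mem_T D.t_mem_T a⁻¹)
  rw [this, mul_one] at hwe
  exact D.mem_C.2 hwe

omit [Finite G] in
theorem iA_eq_one {x : A5} (h : D.iA x = 1) : x = 1 := D.iA_inj (h.trans (map_one _).symm)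

variable (hperf : commutator G = ⊤) (hR : D.R ≤ center G)

include hperf hR in
theorem S_eq : (D.S : Subgroup G) = D.E := by
  haveI : Fact (Nat.Prime 2) := ⟨Nat.prime_two⟩
  set Z := center G
  let P := D.S.mapSurjective (QuotientGroup.mk'_surjective Z)
  have hperfq : commutator (G ⧸ Z) = ⊤ := by
    rw [_root_.commutator_def, ← Subgroup.map_top_of_surjective _ (QuotientGroup.mk'_surjective Z),
      ← map_commutator, ← _root_.commutator_def, hperf, Subgroup.map_top_of_surjective _ (QuotientGroup.mk'_surjective Z)]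
  have hab : IsMulCommutative (P : Subgroup (G ⧸ Z)) := by
    refine ⟨⟨?_⟩⟩
    rintro ⟨_, x, hx, rfl⟩ ⟨_, y, hy, rfl⟩
    apply Subtype.ext
    show QuotientGroup.mk' Z x * QuotientGroup.mk' Z y = QuotientGroup.mk' Z y * QuotientGroup.mk' Z x
    rw [← commutatorElement_eq_one_iff_mul_comm, ← map_commutatorElement]
    exact (QuotientGroup.eq_one_iff _).2 (hR (by
      rw [commutatorElement_def]; exact D.comm_mem_R (D.S_le_CE hx) (D.S_le_CE hy)))
  have hbot := Transfer.inf_centralizer_normalizer_inf_commutator_eq_bot P hab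
  have hdec : ∀ x ∈ (D.S : Subgroup G), ∃ e ∈ D.E, ∃ y ∈ Z, x = e * y := by
    intro x hx
    obtain ⟨e, he, y, -, hxe, hfix⟩ := D.fixed_decomp (D.S_le_CE hx)
    refine ⟨e, he, y, ?_, hxe⟩
    have hyS : y ∈ (D.S : Subgroup G) := by
      have : y = e⁻¹ * x := by rw [hxe]; group
      exact this ▸ mul_mem (inv_mem (D.E_le_S he)) hx
    refine (QuotientGroup.eq_one_iff _).1 (mem_bot.1 (hbot.le ⟨⟨⟨y, hyS, rfl⟩, ?_⟩, hperfq ▸ mem_top _⟩))
    refine mem_centralizer_iff.2 fun k hk => ?_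
    obtain ⟨n, rfl⟩ := QuotientGroup.mk'_surjective Z k
    have hn : n ∈ D.NE := by
      refine D.weakly_closed D.E_isPGroup le_rfl fun e' he' => ?_
      by_cases he1 : e' = 1
      · simp [he1, D.E.one_mem]
      have hmem := (mem_normalizer_iff.1 hk (QuotientGroup.mk' Z e')).1 ⟨e', D.E_le_S he', rfl⟩
      obtain ⟨q, hq, hqe⟩ := hmem
      rw [← map_inv, ← map_mul, ← map_mul, QuotientGroup.mk'_eq_mk'] at hqe
      obtain ⟨w, hw, hwe⟩ := hqe
      have hCE : n * e' * n⁻¹ ∈ D.CE := hwe ▸ D.CE.mul_mem (D.S_le_CE hq)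
        (mem_centralizer_iff.2 fun a _ => mem_center_iff.1 hw a)
      exact D.CE_inf_range hCE (D.T_comm_mem (D.conj_mem_T (D.mem_T_of_E he' he1) n) (D.CE_le_C hCE))
    obtain ⟨r, hr, hny⟩ := hfix n hn
    have h1 : QuotientGroup.mk' Z r = 1 := (QuotientGroup.eq_one_iff _).2 (hR hr)
    calc QuotientGroup.mk' Z n * QuotientGroup.mk' Z y = QuotientGroup.mk' Z (n * y * n⁻¹ * n) := by
          rw [← map_mul]; congr 1; group
      _ = QuotientGroup.mk' Z y * QuotientGroup.mk' Z n := by rw [hny, map_mul, map_mul, h1, one_mul]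
  haveI : IsMulCommutative (D.S : Subgroup G) := by
    refine ⟨⟨?_⟩⟩
    rintro ⟨x, hx⟩ ⟨y, hy⟩
    apply Subtype.ext
    obtain ⟨e, he, w, hw, rfl⟩ := hdec x hx
    obtain ⟨e', he', w', hw', rfl⟩ := hdec y hy
    show e * w * (e' * w') = e' * w' * (e * w)
    calc e * w * (e' * w') = e * (w * e') * w' := by group
      _ = e * e' * (w * w') := by rw [← mem_center_iff.1 hw e']; group
      _ = e' * e * (w' * w) := by rw [D.E_comm he he', mem_center_iff.1 hw' w]
      _ = e' * (e * w') * w := by group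
      _ = e' * w' * (e * w) := by rw [mem_center_iff.1 hw' e]; group
  refine le_antisymm (fun x hx => ?_) D.E_le_S
  obtain ⟨e, he, y, hy, rfl⟩ := hdec x hx
  have hyS : y ∈ (D.S : Subgroup G) := ((D.S : Subgroup G).mul_mem_cancel_left (D.E_le_S he)).1 hx
  have hodd := Transfer.not_dvd_orderOf_central_commutator D.S hy (hperf ▸ mem_top y)
  obtain ⟨k, hk⟩ := D.S.isPGroup' ⟨y, hyS⟩
  have hd : orderOf y ∣ 2 ^ k := orderOf_dvd_of_pow_eq_one (congrArg Subtype.val hk)
  obtain ⟨j, -, hj⟩ := (Nat.dvd_prime_pow Nat.prime_two).1 hd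
  rcases Nat.eq_zero_or_pos j with rfl | hj0
  · rw [pow_zero, orderOf_eq_one_iff] at hj
    rw [hj, mul_one]; exact he
  · exact absurd (hj ▸ dvd_pow_self 2 hj0.ne') hodd

include hperf hR in
theorem card_S : Nat.card D.S = 8 :=
  (congrArg (fun K : Subgroup G => Nat.card K) (D.S_eq hperf hR)).trans D.card_E

include hperf hR in
theorem involution_mem_T {x : G} (hx : x * x = 1) (hx1 : x ≠ 1) : x ∈ D.T := by
  haveI : Fact (Nat.Prime 2) := ⟨Nat.prime_two⟩
  have hp : IsPGroup 2 (zpowers x) :=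
    IsPGroup.of_card (n := 1) (by rw [Nat.card_zpowers, pow_one]; exact orderOf_eq_prime (by rw [pow_two]; exact hx) hx1)
  obtain ⟨Q, hQ⟩ := hp.exists_le_sylow
  obtain ⟨h, rfl⟩ := MulAction.exists_smul_eq G D.S Q
  have := hQ (mem_zpowers x)
  rw [Sylow.coe_subgroup_smul, mem_pointwise_smul_iff_inv_smul_mem, D.S_eq hperf hR] at this
  have hxE : h⁻¹ * x * h ∈ D.E := by simpa using this
  have := D.conj_mem_T (D.mem_T_of_E hxE fun e => hx1 (conj_eq_one_iff.1 (by simpa using e : h⁻¹ * x * h⁻¹⁻¹ = 1))) h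
  simpa [mul_assoc] using this

include hperf hR in
theorem Y_decomp {y : G} (hy : y ∈ D.Y) : ∃ p, (p = 1 ∨ p = D.t) ∧ ∃ z ∈ center G, y = p * z := by
  haveI : Fact (Nat.Prime 2) := ⟨Nat.prime_two⟩
  have hy2 : y ^ 2 ∈ center G := by rw [pow_two]; exact hR (D.sq_mem_R (D.Y_le_CE hy))
  set m := ordCompl[2] (orderOf y)
  have hm : m % 2 = 1 := by
    have := Nat.not_dvd_ordCompl Nat.prime_two (orderOf_pos y).ne'
    omega
  have hp : y ^ m ∈ D.E := by
    have hz : IsPGroup 2 (zpowers (y ^ m)) := by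
      refine IsPGroup.of_card (n := (orderOf y).factorization 2) ?_
      rw [Nat.card_zpowers, orderOf_pow_of_dvd (Nat.ordCompl_pos 2 (orderOf_pos y).ne').ne' (Nat.ordCompl_dvd _ 2),
        Nat.div_div_self (Nat.ordProj_dvd _ 2) (orderOf_pos y).ne']
    have hN : zpowers (y ^ m) ≤ normalizer (D.E : Set G) :=
      zpowers_le.2 (D.CE_le_NE (D.CE.pow_mem (D.Y_le_CE hy) m))
    have hpg := IsPGroup.to_sup_of_normal_right' hz D.E_isPGroup hN
    obtain ⟨Q, hQ⟩ := hpg.exists_le_sylow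
    have : D.E = zpowers (y ^ m) ⊔ D.E := by
      refine eq_of_le_of_card_ge le_sup_right ?_
      rw [D.card_E, ← D.card_S hperf hR, Sylow.card_eq_multiplicity, ← Sylow.card_eq_multiplicity Q]
      exact Nat.card_le_card_of_injective _ (inclusion_injective hQ)
    rw [this]
    exact mem_sup_left (mem_zpowers _)
  refine ⟨y ^ m, D.E_inf_Y hp (D.Y.pow_mem hy m), ((y ^ 2) ^ (m / 2))⁻¹, (center G).inv_mem ((center G).pow_mem hy2 _), ?_⟩
  rw [eq_mul_inv_iff_mul_eq, ← pow_mul, ← pow_succ']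
  congr 1
  omega

include hperf hR in
theorem C_range_center {c : G} (hc : c ∈ D.C) : ∃ x, ∃ z ∈ center G, c = D.f x * z := by
  obtain ⟨a, y, hy, rfl⟩ := D.C_decomp hc
  obtain ⟨p, hp, z, hz, rfl⟩ := D.Y_decomp hperf hR hy
  rcases hp with rfl | rfl
  · exact ⟨(1, a), z, hz, by rw [iA_apply, one_mul]⟩
  · refine ⟨(1, a) * (Multiplicative.ofAdd 1, 1), z, hz, ?_⟩
    rw [map_mul, D.f_t, ← iA_apply, mul_assoc]

variable (hinv : closure {x : G | x * x = 1} = ⊤)

include hperf hR hinv in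
theorem quot_center_simple : IsSimpleGroup (G ⧸ center G) := by
  haveI : Fact (Nat.Prime 2) := ⟨Nat.prime_two⟩
  haveI : Nontrivial (G ⧸ center G) :=
    ⟨⟨_, 1, (D.quot (center G) le_rfl).t_ne⟩⟩
  refine ⟨fun Kq hKq => ?_⟩
  let K := Kq.comap (QuotientGroup.mk' (center G))
  haveI hKn : K.Normal := hKq.comap _
  have hZK : center G ≤ K := fun x hx => by
    show QuotientGroup.mk' (center G) x ∈ Kq
    rw [QuotientGroup.mk'_apply, (QuotientGroup.eq_one_iff x).2 hx]; exact Kq.one_mem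
  by_cases hKE : ∃ e ∈ D.E, e ≠ 1 ∧ e ∈ K
  · right
    obtain ⟨e, he, he1, heK⟩ := hKE
    obtain ⟨m, hm, hme⟩ := D.transitive he he1
    have ht : D.t ∈ K := by
      have := hKn.conj_mem _ heK m⁻¹
      rw [← hme] at this
      simpa [mul_assoc] using this
    have hT : ∀ x ∈ D.T, x ∈ K := by
      rintro _ ⟨g, rfl⟩; exact hKn.conj_mem _ ht g
    have hKtop : K = ⊤ := top_le_iff.1 (hinv ▸ (closure_le _).2 fun x hx => by
      by_cases hx1 : x = 1
      · rw [hx1]; exact K.one_mem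
      · exact hT x (D.involution_mem_T hperf hR hx hx1))
    rw [eq_top_iff]
    intro x _
    obtain ⟨a, rfl⟩ := QuotientGroup.mk'_surjective _ x
    exact (hKtop ▸ mem_top a : a ∈ K)
  · left
    push Not at hKE
    have hodd : ∀ x ∈ K, x * x = 1 → x = 1 := by
      intro x hx hx2
      by_contra hx1
      obtain ⟨g, hg⟩ := D.involution_mem_T hperf hR hx2 hx1
      have h := hKn.conj_mem _ hx g⁻¹
      rw [← hg] at h
      have ht : D.t ∈ K := by simpa [mul_assoc] using h
      exact hKE D.t D.t_mem_E D.t_ne ht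
    have hcop : Nat.Coprime (Nat.card D.E) (Nat.card K) := by
      rw [D.card_E]
      refine Nat.Coprime.pow_left 3 ((Nat.prime_two.coprime_iff_not_dvd).2 fun hd => ?_)
      obtain ⟨⟨x, hx⟩, hox⟩ := exists_prime_orderOf_dvd_card' (G := K) 2 hd
      rw [orderOf_mk] at hox
      have := hodd x hx (by rw [← pow_two, ← hox, pow_orderOf_eq_one])
      rw [this, orderOf_one] at hox
      norm_num at hox
    haveI : IsMulCommutative D.E := ⟨⟨fun a b => Subtype.ext (D.E_comm a.2 b.2)⟩⟩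
    have hcyc : ¬ IsCyclic D.E := by
      intro h
      have h2 : Monoid.exponent D.E = 8 := h.exponent_eq_card.trans D.card_E
      have h3 : Monoid.exponent D.E ∣ 2 :=
        Monoid.exponent_dvd_of_forall_pow_eq_one fun x => Subtype.ext (by
          rw [SubmonoidClass.coe_pow, pow_two]; exact D.E_sq x.2)
      rw [h2] at h3
      norm_num at h3
    have hnorm : D.E ≤ normalizer (K : Set G) := by rw [normalizer_eq_top]; exact le_top
    have ht : K ⊓ centralizer {D.t} ≤ center G := by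
      rintro k ⟨hk, hkc⟩
      obtain ⟨x, z, hz, rfl⟩ := D.C_range_center hperf hR hkc
      have hxK : D.f x ∈ K := (K.mul_mem_cancel_right (hZK hz)).1 hk
      let K' : Subgroup A5 := (K.comap D.f).comap (MonoidHom.inr _ _)
      haveI := alternatingGroup.isSimpleGroup_five
      have hK' : K' = ⊥ := by
        refine (Subgroup.Normal.eq_bot_or_eq_top ((hKn.comap _).comap _ : K'.Normal)).resolve_right fun h => ?_
        have hv : v0 ∈ K' := by
          show v0 ∈ (K.comap D.f).comap (MonoidHom.inr _ _)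
          rw [h]; exact mem_top _
        exact hKE _ (D.iA_mem_E v0_mem) (fun e => absurd (D.iA_eq_one e) (by decide +kernel)) hv
      obtain ⟨i, a⟩ := x
      have ha2 : a * a ∈ K' := by
        show D.f (1, a * a) ∈ K
        have := K.mul_mem hxK hxK
        rwa [← map_mul, Prod.mk_mul_mk, zmod_sq i] at this
      rw [hK', mem_bot] at ha2
      have h1 : D.f (i, a) = 1 := hodd _ hxK (by
        rw [← map_mul, Prod.mk_mul_mk, ha2, zmod_sq i]
        exact map_one _)
      rw [h1, one_mul]; exact hz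
    have hall : ∀ e ∈ D.E, e ≠ 1 → K ⊓ centralizer {e} ≤ K ⊓ center G := by
      intro e he he1 k hk
      obtain ⟨m, hm, hme⟩ := D.transitive he he1
      refine ⟨hk.1, ?_⟩
      have h1 : m⁻¹ * k * m⁻¹⁻¹ ∈ K ⊓ centralizer {D.t} := by
        refine ⟨hKn.conj_mem _ hk.1 _, mem_centralizer_singleton_iff.2 ?_⟩
        have h2 := mem_centralizer_singleton_iff.1 hk.2
        rw [← hme] at h2
        calc m⁻¹ * k * m⁻¹⁻¹ * D.t = m⁻¹ * (k * (m * D.t * m⁻¹)) * m := by group
          _ = D.t * (m⁻¹ * k * m⁻¹⁻¹) := by rw [h2]; group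
      have h3 := (inferInstance : (center G).Normal).conj_mem _ (ht h1) m
      have e3 : k = m * (m⁻¹ * k * m⁻¹⁻¹) * m⁻¹ := by group
      rw [e3]; exact h3
    have hK := Coprime.eq_of_forall_centralizer_le hcyc hnorm hcop inf_le_left hall
    rw [eq_bot_iff]
    intro x hx
    obtain ⟨a, rfl⟩ := QuotientGroup.mk'_surjective _ x
    exact mem_bot.2 ((QuotientGroup.eq_one_iff a).2 (hK.symm ▸ (show a ∈ K from hx) : a ∈ K ⊓ center G).2)

include hperf hR in
theorem quot_center_equiv : Nonempty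
    (↥(centralizer ({QuotientGroup.mk' (center G) D.t} : Set (G ⧸ center G))) ≃* Multiplicative (ZMod 2) × A5) := by
  set DQ := D.quot (center G) le_rfl
  have h : centralizer ({QuotientGroup.mk' (center G) D.t} : Set (G ⧸ center G)) = DQ.f.range := by
    refine le_antisymm (fun c hc => ?_) DQ.range_le_C
    obtain ⟨a, rfl⟩ := QuotientGroup.mk'_surjective _ c
    obtain ⟨x, z, hz, rfl⟩ := D.C_range_center hperf hR (D.quot_C (center G) le_rfl hc)
    refine ⟨x, ?_⟩
    show QuotientGroup.mk' _ (D.f x) = _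
    rw [map_mul (QuotientGroup.mk' (center G)) (D.f x) z, show QuotientGroup.mk' (center G) z = 1 from
      (QuotientGroup.eq_one_iff z).2 hz, mul_one]
  exact ⟨(MulEquiv.subgroupCongr h).trans (MonoidHom.ofInjective DQ.f_inj).symm⟩

include hperf hR hinv in
/-- The perfect case: `G` is `J₁`. -/
theorem core (hrec : RecJ1.{u}) :
    Nat.card G = 175560 ∧ IsSimpleGroup G ∧ Cfsg.Spor.IsoJ1 G ∧ ∀ c ∈ D.C, c ∈ D.f.range := by
  haveI : Fact (Nat.Prime 2) := ⟨Nat.prime_two⟩
  set Z := center G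
  haveI := D.quot_center_simple hperf hR hinv
  have hSE := D.S_eq hperf hR
  have hinj : ∀ e ∈ D.E, QuotientGroup.mk' Z e = 1 → e = 1 := by
    intro e he h
    exact D.range_not_center (D.E_le_range he) fun a _ =>
      mem_center_iff.1 ((QuotientGroup.eq_one_iff e).1 h) a
  let P := D.S.mapSurjective (QuotientGroup.mk'_surjective Z)
  have hPab : IsMulCommutative (P : Subgroup (G ⧸ Z)) := by
    refine ⟨⟨?_⟩⟩
    rintro ⟨_, x, hx, rfl⟩ ⟨_, y, hy, rfl⟩
    apply Subtype.ext
    show QuotientGroup.mk' Z x * QuotientGroup.mk' Z y = QuotientGroup.mk' Z y * QuotientGroup.mk' Z x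
    rw [← map_mul, ← map_mul, D.E_comm (hSE.le hx) (hSE.le hy)]
  have hPcard : Nat.card P = 8 := by
    rw [← D.card_S hperf hR]
    refine (Nat.card_congr (Equiv.ofBijective
      (fun x : D.S => (⟨QuotientGroup.mk' Z x, x, x.2, rfl⟩ : P)) ⟨fun a b h => ?_, ?_⟩)).symm
    · have h' : QuotientGroup.mk' Z a = QuotientGroup.mk' Z b := congrArg Subtype.val h
      have h2 : QuotientGroup.mk' Z ((a : G)⁻¹ * b) = 1 := by
        rw [map_mul, map_inv, h', inv_mul_cancel]
      exact Subtype.ext (inv_mul_eq_one.1 (hinj _ (D.E.mul_mem (D.E.inv_mem (hSE.le a.2)) (hSE.le b.2)) h2))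
    · rintro ⟨_, x, hx, rfl⟩; exact ⟨⟨x, hx⟩, rfl⟩
  obtain ⟨hcard, hiso⟩ := hrec (G ⧸ Z) P hPab hPcard _ (D.quot Z le_rfl).orderOf_t (D.quot_center_equiv hperf hR)
  have hZ : Z = ⊥ := by
    rw [← Subgroup.card_eq_one]
    by_contra hne
    obtain ⟨p, hp, hpd⟩ := Nat.exists_prime_and_dvd hne
    haveI : Fact p.Prime := ⟨hp⟩
    obtain ⟨⟨z, hz⟩, hoz⟩ := exists_prime_orderOf_dvd_card' (G := Z) p hpd
    rw [orderOf_mk] at hoz
    obtain ⟨Q⟩ : Nonempty (Sylow p G) := inferInstance
    have hab : IsMulCommutative (Q : Subgroup G) := by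
      by_cases hp2 : p = 2
      · subst hp2
        obtain ⟨g, rfl⟩ := MulAction.exists_smul_eq G D.S Q
        refine ⟨⟨?_⟩⟩
        rintro ⟨x, hx⟩ ⟨y, hy⟩
        rw [Sylow.coe_subgroup_smul, mem_pointwise_smul_iff_inv_smul_mem, hSE] at hx hy
        have h := D.E_comm hx hy
        rw [← smul_mul', ← smul_mul'] at h
        exact Subtype.ext (MulAction.injective _ h)
      · let φ := (QuotientGroup.mk' Z).comp (Q : Subgroup G).subtype
        obtain ⟨n, hn⟩ := (Q.isPGroup'.map (QuotientGroup.mk' Z)).exists_card_eq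
        have hd : p ^ n ∣ 175560 := hn ▸ hcard ▸ card_subgroup_dvd_card _
        have hn1 : n ≤ 1 := by
          by_contra h
          have h2 : p ^ 2 ∣ 175560 := (Nat.pow_dvd_pow p (show 2 ≤ n by omega)).trans hd
          have hple : p ≤ 420 := by
            by_contra hlt
            have := Nat.le_of_dvd (by norm_num) h2
            nlinarith
          have h3 : p ∣ 21945 := by
            have h4 : p ∣ 8 * 21945 := (dvd_pow_self p two_ne_zero).trans h2
            rcases hp.dvd_mul.1 h4 with h5 | h5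
            · exact absurd ((Nat.prime_dvd_prime_iff_eq hp Nat.prime_two).1 (hp.dvd_of_dvd_pow (show p ∣ 2 ^ 3 from h5))) hp2
            · exact h5
          have : ∀ q ∈ (21945 : ℕ).divisors, q ^ 2 ∣ 175560 → q = 1 := by decide +kernel
          exact hp.ne_one (this p (Nat.mem_divisors.2 ⟨h3, by norm_num⟩) h2)
        haveI : IsCyclic φ.range := by
          rw [MonoidHom.range_comp, Subgroup.range_subtype]
          rcases Nat.le_one_iff_eq_zero_or_eq_one.1 hn1 with rfl | rfl
          · haveI : Subsingleton ↥((Q : Subgroup G).map (QuotientGroup.mk' Z)) :=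
              (Nat.card_eq_one_iff_unique.1 hn).1
            exact isCyclic_of_subsingleton
          · exact isCyclic_of_prime_card (hn.trans (pow_one p))
        refine ⟨⟨fun a b => ?_⟩⟩
        refine commutative_of_cyclic_center_quotient φ.rangeRestrict ?_ a b
        rw [MonoidHom.ker_rangeRestrict]
        intro x hx
        exact mem_center_iff.2 fun y => Subtype.ext (mem_center_iff.1 ((QuotientGroup.eq_one_iff _).1 hx) _)
    exact Transfer.not_dvd_orderOf_central_commutator Q hz (hperf ▸ mem_top z) (hoz ▸ dvd_rfl)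
  let ψ : G ⧸ Z ≃* G := (QuotientGroup.quotientMulEquivOfEq hZ).trans QuotientGroup.quotientBot
  obtain ⟨ι⟩ := hiso
  haveI : Nontrivial G := ψ.symm.toEquiv.nontrivial
  refine ⟨(Nat.card_congr ψ.toEquiv).symm.trans hcard, IsSimpleGroup.isSimpleGroup_of_surjective ψ.toMonoidHom ψ.surjective,
    ⟨ψ.symm.trans ι⟩, fun c hc => ?_⟩
  · obtain ⟨x, z, hz, rfl⟩ := D.C_range_center hperf hR hc
    have : z = 1 := mem_bot.1 (hZ ▸ hz)
    rw [this, mul_one]; exact ⟨x, rfl⟩

end Setup

end Cfsg.Agent.J1WeakClosure
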