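import Cfsg.Agent.Lib.Order175560.Reduction

/-!
# Subgroups of odd order of a simple group of order 175560 with involution centralizers of order 120
-/

set_option autoImplicit false
set_option linter.style.haveILetI false

namespace Cfsg.Agent.J1WeakClosure

open Subgroup
open scoped Pointwise

universe u

theorem sylow_nineteen_cases : ∀ n ∈ (9240 : ℕ).divisors, n % 19 = 1 → n ≤ 120 → n = 1 ∨ n = 20 ∨ n = 77 := by
  decide +kernel

theorem odd_card_lt {X : Type u} [Group X] [Finite X] [IsSimpleGroup X] (hX : Nat.card X = 175560)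
    (hcent : ∀ t : X, orderOf t = 2 → Nat.card (centralizer ({t} : Set X)) = 120)
    (P : Subgroup X) (hP : Odd (Nat.card P)) : Nat.card P < 1463 := by
  classical
  haveI h19 : Fact (Nat.Prime 19) := ⟨by norm_num⟩
  haveI : Fact (Nat.Prime 2) := ⟨Nat.prime_two⟩
  by_contra hlt
  push Not at hlt
  have hd : Nat.card P ∣ 175560 := hX ▸ P.card_subgroup_dvd_card
  have hd1 : Nat.card P ∣ 21945 :=
    ((Nat.coprime_two_left.2 hP).symm.pow_right 3).dvd_of_dvd_mul_left (show Nat.card P ∣ 2 ^ 3 * 21945 from hd)
  have h19P : 19 ∣ Nat.card P := by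
    by_contra h
    have h1 : Nat.card P ∣ 1155 :=
      ((Nat.Prime.coprime_iff_not_dvd h19.out).2 h).symm.dvd_of_dvd_mul_left (show Nat.card P ∣ 19 * 1155 from hd1)
    have := Nat.le_of_dvd (by norm_num) h1
    omega
  have hne : Nat.card P ≠ 175560 := fun h => by
    have := Nat.le_of_dvd (by norm_num) hd1
    omega
  obtain ⟨R⟩ : Nonempty (Sylow 19 P) := inferInstance
  have hRn := Order175560.normal_of_proper_divisor P hd hne R
  obtain ⟨Q, hQ⟩ := (R.isPGroup'.map P.subtype).exists_le_sylow
  have hQc : Nat.card (Q : Subgroup X) = 19 := by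
    obtain ⟨k, hk⟩ := Q.isPGroup'.exists_card_eq
    have hd2 : 19 ^ k ∣ 175560 := hk ▸ hX ▸ (Q : Subgroup X).card_subgroup_dvd_card
    have hk1 : k ≤ 1 := by
      by_contra h
      have := (Nat.pow_dvd_pow 19 (show 2 ≤ k by omega)).trans hd2
      norm_num at this
    have hk0 : k ≠ 0 := by
      rintro rfl
      have h := (Q : Subgroup X).card_mul_index
      rw [hk, pow_zero, one_mul, hX] at h
      exact Q.not_dvd_index (h ▸ by norm_num)
    rw [hk, show k = 1 by omega, pow_one]
  have hRc : Nat.card (R : Subgroup P) = 19 := by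
    have hdR : Nat.card (R : Subgroup P) ∣ 19 := by
      rw [← Nat.card_congr (equivMapOfInjective (R : Subgroup P) P.subtype P.subtype_injective).toEquiv.symm]
      exact (card_dvd_of_le hQ).trans hQc.dvd
    rcases (Nat.dvd_prime h19.out).1 hdR with h | h
    · exfalso
      have := R.not_dvd_index
      have hi := (R : Subgroup P).card_mul_index
      rw [h, one_mul] at hi
      exact this (hi ▸ h19P)
    · exact h
  have hQeq : (R : Subgroup P).map P.subtype = Q := eq_of_le_of_card_ge hQ (by
    rw [hQc, Nat.card_congr (equivMapOfInjective (R : Subgroup P) P.subtype P.subtype_injective).toEquiv.symm, hRc])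
  set N := normalizer ((Q : Subgroup X) : Set X) with hN
  have hPN : P ≤ N := by
    intro x hx
    rw [hN, ← hQeq, mem_normalizer_iff]
    intro r
    constructor
    · rintro ⟨r, hr, rfl⟩
      exact ⟨⟨x, hx⟩ * r * ⟨x, hx⟩⁻¹, hRn.conj_mem _ hr _, rfl⟩
    · rintro ⟨r', hr, he⟩
      refine ⟨⟨x, hx⟩⁻¹ * r' * ⟨x, hx⟩⁻¹⁻¹, hRn.conj_mem _ hr _, ?_⟩
      simp only [map_mul, map_inv, coe_subtype] at he ⊢
      rw [he]; group
  have hQnn : ¬ (Q : Subgroup X).Normal := fun h => by
    rcases h.eq_bot_or_eq_top with h' | h'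
    · rw [h', card_bot] at hQc; norm_num at hQc
    · rw [h', card_top, hX] at hQc; norm_num at hQc
  have hnN : Nat.card (Sylow 19 X) * Nat.card N = 175560 := by
    rw [Q.card_eq_index_normalizer, ← hX, mul_comm]
    exact N.card_mul_index
  have hNle := Nat.le_of_dvd Nat.card_pos (card_dvd_of_le hPN)
  set n := Nat.card (Sylow 19 X)
  have hn120 : n ≤ 120 := by nlinarith
  have hn9240 : n ∣ 9240 := by
    have hcop : n.Coprime 19 := ((Nat.Prime.coprime_iff_not_dvd h19.out).2 fun h => by
      have := card_sylow_modEq_one 19 X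
      unfold Nat.ModEq at this
      omega).symm
    exact hcop.dvd_of_dvd_mul_left (show n ∣ 19 * 9240 from (dvd_mul_right n _).trans hnN.dvd)
  have hn1 : n % 19 = 1 := by
    have := card_sylow_modEq_one 19 X
    unfold Nat.ModEq at this
    exact this
  have hC : ¬ 2 ∣ Nat.card (centralizer ((Q : Subgroup X) : Set X)) := fun h => by
    obtain ⟨⟨u, hu⟩, hou⟩ := exists_prime_orderOf_dvd_card' (G := centralizer ((Q : Subgroup X) : Set X)) 2 h
    rw [orderOf_mk] at hou
    have hle : (Q : Subgroup X) ≤ centralizer {u} := fun q hq =>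
      mem_centralizer_singleton_iff.2 (mem_centralizer_iff.1 hu q hq)
    have := card_dvd_of_le hle
    rw [hQc, hcent u hou] at this
    norm_num at this
  rcases sylow_nineteen_cases n (Nat.mem_divisors.2 ⟨hn9240, by norm_num⟩) hn1 hn120 with h | h | h
  · -- a normal Sylow subgroup
    haveI : Subsingleton (Sylow 19 X) := (Nat.card_eq_one_iff_unique.1 h).1
    exact hQnn Q.normal_of_subsingleton
  · -- twenty Sylow subgroups: an element of order 11 of `C(Q)` acts trivially
    haveI : Fact (Nat.Prime 11) := ⟨by norm_num⟩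
    haveI := Fintype.ofFinite (Sylow 19 X)
    let φ := (Q : Subgroup X).normalizerMonoidHom
    have h11N : 11 ∣ Nat.card N := by
      rw [show Nat.card N = 8778 by rw [h] at hnN; omega]; norm_num
    obtain ⟨⟨z, hz⟩, hoz⟩ := exists_prime_orderOf_dvd_card' (G := N) 11 h11N
    have hz1 : φ ⟨z, hz⟩ = 1 := by
      haveI : IsCyclic (Q : Subgroup X) := isCyclic_of_prime_card hQc
      have hc : Nat.card (MulAut (Q : Subgroup X)) = 18 := by
        rw [Nat.card_congr (IsCyclic.mulAutMulEquiv (Q : Subgroup X)).toEquiv, hQc, Nat.card_eq_fintype_card,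
          ZMod.card_units_eq_totient]
        decide +kernel
      refine orderOf_eq_one_iff.1 (Nat.eq_one_of_dvd_coprimes (by norm_num : Nat.Coprime 11 18)
        (hoz ▸ orderOf_map_dvd φ _) ?_)
      rw [← hc]; exact orderOf_dvd_natCard _
    have hzC : z ∈ centralizer ((Q : Subgroup X) : Set X) := Order175560.normalizer_hom_eq_one hz1
    rw [orderOf_mk] at hoz
    let π : Equiv.Perm (Sylow 19 X) := MulAction.toPermHom X (Sylow 19 X) z
    have hπ : π ^ 11 ^ 1 = 1 := by
      rw [pow_one, ← map_pow, ← hoz, pow_orderOf_eq_one, map_one]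
    have hπQ : π Q = Q := Sylow.smul_eq_iff_mem_normalizer.2 hz
    have hcnt : 1 < π.supportᶜ.card := by
      have h2 := Equiv.Perm.card_compl_support_modEq (p := 11) (n := 1) hπ
      rw [← Nat.card_eq_fintype_card] at h2
      change π.supportᶜ.card % 11 = n % 11 at h2
      omega
    obtain ⟨R, hRm, hRQ⟩ := Finset.exists_mem_ne hcnt Q
    have hR : π R = R := by simpa using hRm
    obtain ⟨q, hq, hq1⟩ : ∃ q ∈ (Q : Subgroup X), q ≠ 1 := by
      by_contra hall
      push Not at hall
      have : (Q : Subgroup X) = ⊥ := eq_bot_iff.2 fun x hx => mem_bot.2 (hall x hx)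
      rw [this, card_bot] at hQc; norm_num at hQc
    have hgen : zpowers q = (Q : Subgroup X) := Order175560.zpowers_eq_of_card hQc hq hq1
    have hoq : orderOf q = 19 := by rw [← Nat.card_zpowers, hgen, hQc]
    have hinj : Function.Injective fun i : Fin 19 => (q ^ (i : ℕ)) • R := by
      intro i j hij
      simp only at hij
      by_contra hne'
      set m := (q ^ (j : ℕ))⁻¹ * q ^ (i : ℕ) with hm
      have hmQ : m ∈ (Q : Subgroup X) :=
        mul_mem (inv_mem (pow_mem hq _)) (pow_mem hq _)
      have hm1 : m ≠ 1 := fun e => by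
        have h2 := pow_eq_pow_iff_modEq.1 (inv_mul_eq_one.1 e).symm
        rw [hoq] at h2
        exact hne' (Fin.ext (Nat.ModEq.eq_of_lt_of_lt h2 i.2 j.2))
      have hmR : m • R = R := by rw [hm, mul_smul, hij, ← mul_smul, inv_mul_cancel, one_smul]
      have hQR : (Q : Subgroup X) ≤ normalizer ((R : Subgroup X) : Set X) := by
        rw [← Order175560.zpowers_eq_of_card hQc hmQ hm1, zpowers_le]
        exact Sylow.smul_eq_iff_mem_normalizer.1 hmR
      have hsup := IsPGroup.to_sup_of_normal_right' Q.isPGroup' R.isPGroup' hQR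
      refine hRQ (Sylow.ext ?_)
      exact ((Q.is_maximal' hsup le_sup_left).symm.trans (R.is_maximal' hsup le_sup_right)).symm
    have hne' : ∀ i : Fin 19, (q ^ (i : ℕ)) • R ≠ Q := fun i e => hRQ (by
      have h1 : (q ^ (i : ℕ))⁻¹ • Q = Q :=
        Sylow.smul_eq_iff_mem_normalizer.2 (le_normalizer (inv_mem (pow_mem hq _)))
      rw [← e, ← mul_smul, inv_mul_cancel, one_smul] at h1
      rw [h1, e])
    have hall : ∀ T : Sylow 19 X, T = Q ∨ ∃ i : Fin 19, (q ^ (i : ℕ)) • R = T := by
      intro T
      by_contra hcon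
      push Not at hcon
      have hsub : insert T (insert Q (Finset.univ.image fun i : Fin 19 => (q ^ (i : ℕ)) • R)) ⊆ Finset.univ :=
        Finset.subset_univ _
      have hle := Finset.card_le_card hsub
      rw [Finset.card_insert_of_notMem (by simpa using ⟨hcon.1, fun i => hcon.2 i⟩),
        Finset.card_insert_of_notMem (by simpa using hne'), Finset.card_image_of_injective _ hinj,
        Finset.card_univ, Finset.card_univ, Fintype.card_fin, ← Nat.card_eq_fintype_card] at hle
      change 19 + 1 + 1 ≤ n at hle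
      omega
    have hker : z ∈ (MulAction.toPermHom X (Sylow 19 X)).ker := by
      rw [MonoidHom.mem_ker]
      refine Equiv.ext fun T => ?_
      show z • T = T
      rcases hall T with rfl | ⟨i, rfl⟩
      · exact hπQ
      · have hcomm : z * q ^ (i : ℕ) = q ^ (i : ℕ) * z :=
          (mem_centralizer_iff.1 hzC _ (pow_mem hq _)).symm
        rw [← mul_smul, hcomm, mul_smul, show z • R = R from hR]
    rcases (MonoidHom.normal_ker _ : (MulAction.toPermHom X (Sylow 19 X)).ker.Normal).eq_bot_or_eq_top with hk | hk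
    · rw [hk, mem_bot] at hker
      rw [hker, orderOf_one] at hoz; norm_num at hoz
    · refine hQnn (normalizer_eq_top_iff.1 (eq_top_iff.2 fun x _ => Sylow.smul_eq_iff_mem_normalizer.1 ?_))
      have hx : x ∈ (MulAction.toPermHom X (Sylow 19 X)).ker := by rw [hk]; exact mem_top x
      exact Equiv.congr_fun (MonoidHom.mem_ker.1 hx) Q
  · -- seventy-seven Sylow subgroups: eight divides the automizer
    have hN8 : 2 ^ 3 ∣ Nat.card N := by
      rw [show Nat.card N = 2280 by rw [h] at hnN; omega]; norm_num
    obtain ⟨T, hT⟩ := Sylow.exists_subgroup_card_pow_prime (G := N) 2 hN8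
    let φ := ((Q : Subgroup X).normalizerMonoidHom).comp T.subtype
    have hinj : Function.Injective φ := by
      rw [← MonoidHom.ker_eq_bot_iff, eq_bot_iff]
      intro x hx
      have hxC : ((x : N) : X) ∈ centralizer ((Q : Subgroup X) : Set X) := Order175560.normalizer_hom_eq_one hx
      by_contra hx1
      have hx' : ((x : N) : X) ≠ 1 := fun e => hx1 (mem_bot.2 (Subtype.ext (Subtype.ext e)))
      obtain ⟨k, hk⟩ := (IsPGroup.of_card (n := 3) hT : IsPGroup 2 T) x
      have hd : orderOf ((x : N) : X) ∣ 2 ^ k :=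
        orderOf_dvd_of_pow_eq_one (congrArg (fun y : T => ((y : N) : X)) hk)
      obtain ⟨j, -, hj⟩ := (Nat.dvd_prime_pow Nat.prime_two).1 hd
      have hj0 : j ≠ 0 := fun e => hx' (orderOf_eq_one_iff.1 (by rw [hj, e, pow_zero]))
      exact hC ((hj ▸ dvd_pow_self 2 hj0).trans (Subgroup.orderOf_dvd_natCard _ hxC))
    haveI : IsCyclic (Q : Subgroup X) := isCyclic_of_prime_card hQc
    have hc : Nat.card (MulAut (Q : Subgroup X)) = 18 := by
      rw [Nat.card_congr (IsCyclic.mulAutMulEquiv (Q : Subgroup X)).toEquiv, hQc, Nat.card_eq_fintype_card,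
        ZMod.card_units_eq_totient]
      decide +kernel
    have := Subgroup.card_dvd_of_injective φ hinj
    rw [hT, hc] at this
    norm_num at this

end Cfsg.Agent.J1WeakClosure
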