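import Cfsg.Agent.Lib.J1WeakClosure.Top
import Cfsg.Agent.Lib.J1WeakClosure.OddBound
import Cfsg.Agent.Lib.ZStar.Main

/-!
# `G = ⟨N(E), C(t)⟩`, by induction on the order
-/

set_option autoImplicit false
set_option linter.style.haveILetI false

namespace Cfsg.Agent.J1WeakClosure

open Cfsg.Agent.HJType.AltFive (A5 v0 v1 h3)
open Subgroup

universe u

/-- An involutive permutation of a finite group fixing `1` fixes an involution, if the order is even. -/
theorem exists_fixed_involution {X : Type*} [Group X] [Finite X] (hX : 2 ∣ Nat.card X) (φ : X ≃* X)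
    (hφ : ∀ x, φ (φ x) = x) : ∃ x : X, x ≠ 1 ∧ x * x = 1 ∧ φ x = x := by
  classical
  haveI : Fact (Nat.Prime 2) := ⟨Nat.prime_two⟩
  haveI := Fintype.ofFinite X
  have hI : 2 ∣ Fintype.card {x : X // x⁻¹ = x} := by
    have h := Equiv.Perm.card_compl_support_modEq (p := 2) (n := 1) (σ := Equiv.inv X)
      (Equiv.ext fun x => by simp [pow_two])
    have e : Fintype.card {x : X // x⁻¹ = x} = (Equiv.inv X).supportᶜ.card := by
      rw [Fintype.card_subtype]; congr 1; ext x; simp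
    rw [e]
    rw [← Nat.card_eq_fintype_card] at h
    change _ % 2 = _ % 2 at h
    omega
  let π : Equiv.Perm {x : X // x⁻¹ = x} :=
    { toFun := fun x => ⟨φ x, by rw [← map_inv, x.2]⟩
      invFun := fun x => ⟨φ x, by rw [← map_inv, x.2]⟩
      left_inv := fun x => Subtype.ext (hφ _)
      right_inv := fun x => Subtype.ext (hφ _) }
  obtain ⟨x, hx, hx1⟩ := Equiv.Perm.exists_fixed_point_of_prime' (p := 2) (n := 1) hI (σ := π)
    (Equiv.ext fun x => by rw [pow_one, pow_two]; exact Subtype.ext (hφ _))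
    (a := ⟨1, inv_one⟩) (Subtype.ext (map_one φ))
  refine ⟨x, fun h => hx1 (Subtype.ext h), ?_, congrArg Subtype.val hx⟩
  calc (x : X) * x = (x : X)⁻¹ * x := by rw [x.2]
    _ = 1 := inv_mul_cancel _

namespace Setup

variable {G : Type u} [Group G] [Finite G] (D : Setup G)

theorem conj_C_le_M {a : G} (ha : a ∈ D.E) (ha1 : a ≠ 1) {x : G} (hx : x * a = a * x) : x ∈ D.M := by
  obtain ⟨m, hm, hme⟩ := D.transitive ha ha1
  have h : m⁻¹ * x * m ∈ D.C := D.mem_C.2 (by
    rw [← hme] at hx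
    calc m⁻¹ * x * m * D.t = m⁻¹ * (x * (m * D.t * m⁻¹)) * m := by group
      _ = D.t * (m⁻¹ * x * m) := by rw [hx]; group)
  have e : x = m * (m⁻¹ * x * m) * m⁻¹ := by group
  rw [e]
  exact D.M.mul_mem (D.M.mul_mem (D.NE_le_M hm) (D.C_le_M h)) (D.M.inv_mem (D.NE_le_M hm))

theorem odd_normal_le_M {O : Subgroup G} (hE : D.E ≤ normalizer (O : Set G)) (hO : Odd (Nat.card O)) : O ≤ D.M := by
  haveI : IsMulCommutative D.E := ⟨⟨fun a b => Subtype.ext (D.E_comm a.2 b.2)⟩⟩
  have hcyc : ¬ IsCyclic D.E := by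
    intro h
    have h2 : Monoid.exponent D.E = 8 := h.exponent_eq_card.trans D.card_E
    have h3 : Monoid.exponent D.E ∣ 2 :=
      Monoid.exponent_dvd_of_forall_pow_eq_one fun x => Subtype.ext (by
        rw [SubmonoidClass.coe_pow, pow_two]; exact D.E_sq x.2)
    rw [h2] at h3
    norm_num at h3
  have hcop : (Nat.card D.E).Coprime (Nat.card O) := by
    rw [D.card_E]; exact Nat.Coprime.pow_left 3 (Nat.coprime_two_left.2 hO)
  have h := Coprime.eq_of_forall_centralizer_le hcyc hE hcop (inf_le_left (b := D.M))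
    fun a ha ha1 x hx => ⟨hx.1, D.conj_C_le_M ha ha1 (mem_centralizer_singleton_iff.1 hx.2)⟩
  exact h ▸ inf_le_right

theorem M_involution_into_CE {x : G} (hx : x ∈ D.M) (hx2 : x * x = 1) : ∃ m ∈ D.M, m * x * m⁻¹ ∈ D.CE := by
  haveI : Fact (Nat.Prime 2) := ⟨Nat.prime_two⟩
  by_cases hx1 : x = 1
  · exact ⟨1, D.M.one_mem, by simp [hx1, D.CE.one_mem]⟩
  let x' : D.M := ⟨x, hx⟩
  have ho : orderOf x' = 2 := orderOf_eq_prime (Subtype.ext (by rw [pow_two]; exact hx2))
    fun h => hx1 (congrArg Subtype.val h)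
  obtain ⟨Q, hQ⟩ := (IsPGroup.of_card (n := 1) (by rw [Nat.card_zpowers, ho, pow_one]) :
    IsPGroup 2 (zpowers x')).exists_le_sylow
  obtain ⟨k, hk⟩ := MulAction.exists_smul_eq D.M Q D.subM.S
  have hmem : k * x' * k⁻¹ ∈ (D.subM.S : Subgroup D.M) := by
    rw [← hk, Sylow.coe_subgroup_smul, mem_pointwise_smul_iff_inv_smul_mem]
    simpa [mul_assoc] using hQ (mem_zpowers x')
  refine ⟨k, k.2, D.mem_CE_of_conj fun e he => ?_⟩
  exact congrArg Subtype.val (D.subM.CE_conj (D.subM.S_le_CE hmem) (e := ⟨e, D.range_le_M (D.E_le_range he)⟩)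
    ((D.mem_sub_E D.M D.range_le_M D.move_in_M).2 he))

/-- The conjugates of `t` in `M` are conjugate to `t` in `M`. -/
theorem T_M_conj {x : G} (hx : x ∈ D.T) (hxM : x ∈ D.M) : ∃ m ∈ D.M, m * D.t * m⁻¹ = x := by
  obtain ⟨k, hk, hkx⟩ := D.M_involution_into_CE hxM (D.T_sq hx)
  have hT := D.conj_mem_T hx k
  have hE := D.CE_inf_range hkx (D.T_comm_mem hT (D.CE_le_C hkx))
  obtain ⟨n, hn, hne⟩ := D.mem_orb_of_T hT hE
  refine ⟨k⁻¹ * n, D.M.mul_mem (D.M.inv_mem hk) (D.NE_le_M hn), ?_⟩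
  calc k⁻¹ * n * D.t * (k⁻¹ * n)⁻¹ = k⁻¹ * (n * D.t * n⁻¹) * k := by group
    _ = x := by rw [hne]; group

variable (ih : ∀ (H : Type u) [Group H] [Finite H] (D' : Setup H), Nat.card H < Nat.card G → D'.Generated)

include ih in
theorem centralizer_le_M_of_move {o : G} (hoc : o ∉ center G) (hf : D.f.range ≤ centralizer {o})
    (hmove : ∃ h ∈ centralizer ({o} : Set G), h ∈ D.NE ∧ h * D.t ≠ D.t * h) : centralizer {o} ≤ D.M := by
  refine D.sub_le_M _ hf hmove (ih _ _ ?_)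
  refine lt_of_le_of_ne (Nat.card_le_card_of_injective _ Subtype.val_injective) fun h => hoc ?_
  have := eq_top_of_card_eq _ h
  exact mem_center_iff.2 fun a => mem_centralizer_singleton_iff.1 (this ▸ mem_top a)

include ih in
theorem centralizer_Y_le_M {y : G} (hy : y ∈ D.Y) (hyc : y ∉ center G) : centralizer {y} ≤ D.M := by
  set H := centralizer ({y} : Set G) with hH
  have hfH : D.f.range ≤ H := by
    rintro _ ⟨⟨i, a⟩, rfl⟩
    refine mem_centralizer_singleton_iff.2 ?_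
    rcases D.f_eq i a with h | h <;> rw [h]
    · exact D.Y_comm_A hy a
    · rw [mul_assoc, D.Y_comm_A hy a, ← mul_assoc, ← (D.mem_Y.1 hy).1, mul_assoc]
  by_cases hmove : ∃ h ∈ H, h ∈ D.NE ∧ h * D.t ≠ D.t * h
  · exact D.centralizer_le_M_of_move ih hyc hfH hmove
  push Not at hmove
  -- `t` is isolated in `H`
  let t' : H := ⟨D.t, hfH ⟨_, D.f_t⟩⟩
  have hiso : IsIsolatedInvolution t' := by
    refine ⟨by rw [orderOf_mk]; exact D.orderOf_t, fun h hc => Subtype.ext ?_⟩
    show (h : G) * D.t * (h : G)⁻¹ = D.t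
    have hc' : D.t * ((h : G) * D.t * (h : G)⁻¹) = (h : G) * D.t * (h : G)⁻¹ * D.t := congrArg Subtype.val hc.eq
    set x := (h : G) * D.t * (h : G)⁻¹ with hx
    have hxT : x ∈ D.T := ⟨h, rfl⟩
    obtain ⟨⟨i, a⟩, hia⟩ := D.conj_mem h hc'.symm
    have hia' : D.f (i, a) = x := hia
    have ha2 : a * a = 1 := by
      have := D.T_sq hxT
      rw [← hia', ← map_mul, ← map_one D.f] at this
      simpa using congrArg Prod.snd (D.f_inj this)
    obtain ⟨c, hc2⟩ := inv_conj_mem a ha2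
    have hconj : D.iA c * x * (D.iA c)⁻¹ = D.f (i, c * a * c⁻¹) := by
      rw [← hia', iA_apply, ← map_inv, ← map_mul, ← map_mul]; simp
    obtain ⟨n, hnH, hn, hne⟩ := D.fusion (H := H) (D.E_le_range.trans hfH) D.t_mem_E (D.f_mem_E hc2)
      (H.mul_mem (hfH ⟨_, rfl⟩) h.2 : D.iA c * (h : G) ∈ H) (by rw [← hconj, hx]; group)
    rw [hmove n hnH hn, mul_inv_cancel_right] at hne
    calc x = (D.iA c)⁻¹ * (D.iA c * x * (D.iA c)⁻¹) * D.iA c := by group
      _ = (D.iA c)⁻¹ * (D.t * D.iA c) := by rw [hconj, ← hne, mul_assoc]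
      _ = D.t := by rw [iA_apply, ← D.t_comm_f (1, c)]; group
  have hZ := ZStar.inZStar hiso
  have hO : ((oddCore H).map H.subtype) ≤ D.M := by
    refine D.odd_normal_le_M ?_ ?_
    · refine fun e he => (mem_normalizer_iff.2 fun r => ⟨?_, ?_⟩)
      · rintro ⟨r, hr, rfl⟩
        exact ⟨_, (inferInstance : (oddCore H).Normal).conj_mem _ hr ⟨e, hfH (D.E_le_range he)⟩, rfl⟩
      · rintro ⟨r', hr, hh⟩
        refine ⟨_, (inferInstance : (oddCore H).Normal).conj_mem _ hr (⟨e, hfH (D.E_le_range he)⟩ : H)⁻¹, ?_⟩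
        simp only [map_mul, map_inv, coe_subtype] at hh ⊢
        rw [hh]; group
    · rw [Nat.card_congr (equivMapOfInjective (oddCore H) H.subtype H.subtype_injective).toEquiv.symm]
      exact PCore.odd_card_oddCore
  intro x hx
  have ho := hO ⟨_, hZ ⟨x, hx⟩, rfl⟩
  simp only [map_mul, map_inv, coe_subtype] at ho
  change x * D.t * x⁻¹ * D.t⁻¹ ∈ D.M at ho
  have hM : x * D.t * x⁻¹ ∈ D.M := by simpa using D.M.mul_mem ho (D.C_le_M D.t_mem_C)
  obtain ⟨m, hm, hme⟩ := D.T_M_conj ⟨x, rfl⟩ hM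
  have hc : m⁻¹ * x ∈ D.C := D.mem_C.2 (by
    calc m⁻¹ * x * D.t = m⁻¹ * (x * D.t * x⁻¹) * x := by group
      _ = D.t * (m⁻¹ * x) := by rw [← hme]; group)
  have := D.M.mul_mem hm (D.C_le_M hc)
  rwa [mul_inv_cancel_left] at this

variable (hcen : center G = ⊥)

include ih hcen in
theorem centralizer_involution_le_M {x : G} (hxM : x ∈ D.M) (hx2 : x * x = 1) (hx1 : x ≠ 1) :
    centralizer {x} ≤ D.M := by
  obtain ⟨k, hk, hkx⟩ := D.M_involution_into_CE hxM hx2
  obtain ⟨n, hn, hny⟩ := D.conj_into_Y hkx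
  set w := n * k with hw
  have hwM : w ∈ D.M := D.M.mul_mem (D.NE_le_M hn) hk
  have hy : w * x * w⁻¹ ∈ D.Y := by
    rw [show w * x * w⁻¹ = n * (k * x * k⁻¹) * n⁻¹ by rw [hw]; group]; exact hny
  have hyc : w * x * w⁻¹ ∉ center G := by
    rw [hcen, mem_bot, conj_eq_one_iff]; exact hx1
  intro z hz
  have h := D.centralizer_Y_le_M ih hy hyc (show w * z * w⁻¹ ∈ centralizer {w * x * w⁻¹} by
    rw [mem_centralizer_singleton_iff, conj_mul, conj_mul, mem_centralizer_singleton_iff.1 hz])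
  have e : z = w⁻¹ * (w * z * w⁻¹) * w := by group
  rw [e]
  exact D.M.mul_mem (D.M.mul_mem (D.M.inv_mem hwM) h) hwM

/-- `M ∩ M^u`. -/
def meet (u : G) : Subgroup G := D.M ⊓ D.M.comap (MulAut.conj u).toMonoidHom

include ih hcen in
theorem meet_odd {u : G} (hu : u ∈ D.T) (huM : u ∉ D.M) : Odd (Nat.card (D.meet u)) := by
  by_contra hodd
  have hu2 : u * u = 1 := D.T_sq hu
  have hmem : ∀ x ∈ D.meet u, u * x * u⁻¹ ∈ D.meet u := fun x hx => by
    refine ⟨hx.2, ?_⟩
    show u * (u * x * u⁻¹) * u⁻¹ ∈ D.M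
    rw [show u * (u * x * u⁻¹) * u⁻¹ = (u * u) * x * (u * u)⁻¹ by group, hu2]
    simpa using hx.1
  have hinv : ∀ x, u * (u * x * u⁻¹) * u⁻¹ = x := fun x => by
    rw [show u * (u * x * u⁻¹) * u⁻¹ = (u * u) * x * (u * u)⁻¹ by group, hu2]; simp
  let φ : D.meet u ≃* D.meet u :=
    { toFun := fun x => ⟨u * x * u⁻¹, hmem x x.2⟩
      invFun := fun x => ⟨u * x * u⁻¹, hmem x x.2⟩
      left_inv := fun x => Subtype.ext (hinv x)
      right_inv := fun x => Subtype.ext (hinv x)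
      map_mul' := fun a b => Subtype.ext
        (show u * ((a : G) * b) * u⁻¹ = (u * a * u⁻¹) * (u * b * u⁻¹) by group) }
  obtain ⟨x, hx1, hx2, hxu⟩ := exists_fixed_involution (Nat.not_odd_iff_even.1 hodd).two_dvd φ
    fun x => Subtype.ext (hinv x)
  have hxu' : u * x * u⁻¹ = x := congrArg Subtype.val hxu
  refine huM (D.centralizer_involution_le_M ih hcen x.2.1 (congrArg Subtype.val hx2)
    (fun h => hx1 (Subtype.ext h)) (mem_centralizer_singleton_iff.2 ?_))
  calc u * (x : G) = u * x * u⁻¹ * u := by group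
    _ = x * u := by rw [hxu']

variable (hrec : RecJ1.{u})

include hrec in
theorem subM_T : Nat.card {x : G // x ∈ D.T ∧ x ∈ D.M} = 1463 := by
  rw [← D.subM.card_T D.subM_generated hrec]
  refine Nat.card_congr
    { toFun := fun x => ⟨⟨x, x.2.2⟩, ?_⟩
      invFun := fun x => ⟨(x.1 : G), ?_, x.1.2⟩
      left_inv := fun x => rfl
      right_inv := fun x => rfl }
  · obtain ⟨m, hm, hme⟩ := D.T_M_conj x.2.1 x.2.2
    exact ⟨⟨m, hm⟩, Subtype.ext hme⟩
  · obtain ⟨m, hm⟩ := x.2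
    exact ⟨m, congrArg Subtype.val hm⟩

include hrec in
theorem exists_big_coset (hM : D.M ≠ ⊤) :
    ∃ u, u ∈ D.T ∧ u ∉ D.M ∧ 1463 ≤ Nat.card {v : G // v ∈ D.T ∧ u⁻¹ * v ∈ D.M} := by
  classical
  haveI := Fintype.ofFinite G
  set k := D.M.index
  have hk : 1 < k := by
    have h0 : k ≠ 0 := D.M.index_ne_zero_of_finite
    have h1 : k ≠ 1 := fun h => hM (index_eq_one.1 h)
    omega
  have hT : Nat.card D.T = 1463 * k := by
    have h1 := HallJankoType.card_orbit_mul (⊤ : Subgroup G) D.t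
    have h2 := HallJankoType.card_orbit_mul D.M D.t
    have e1 : {v : G // ∃ h ∈ (⊤ : Subgroup G), h * D.t * h⁻¹ = v} ≃ D.T :=
      Equiv.subtypeEquivRight fun v => ⟨fun ⟨h, _, e⟩ => ⟨h, e⟩, fun ⟨h, e⟩ => ⟨h, mem_top h, e⟩⟩
    have e2 : {v : G // ∃ h ∈ D.M, h * D.t * h⁻¹ = v} ≃ {x : G // x ∈ D.T ∧ x ∈ D.M} :=
      Equiv.subtypeEquivRight fun v =>
        ⟨fun ⟨h, hh, e⟩ => ⟨⟨h, e⟩, e ▸ D.M.mul_mem (D.M.mul_mem hh (D.C_le_M D.t_mem_C)) (D.M.inv_mem hh)⟩,
          fun ⟨h1, h2⟩ => D.T_M_conj h1 h2⟩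
    rw [Nat.card_congr e1, top_inf_eq] at h1
    rw [Nat.card_congr e2, D.subM_T hrec, show D.M ⊓ centralizer {D.t} = D.C from inf_eq_right.2 D.C_le_M] at h2
    rw [Subgroup.card_top, ← D.M.card_mul_index] at h1
    change Nat.card D.T * Nat.card D.C = Nat.card D.M * k at h1
    change 1463 * Nat.card D.C = Nat.card D.M at h2
    refine Nat.eq_of_mul_eq_mul_right (Nat.card_pos (α := D.C)) ?_
    rw [h1, ← h2]; ring
  let s := (Finset.univ : Finset G).filter fun v => v ∈ D.T ∧ v ∉ D.M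
  let t := (Finset.univ : Finset (G ⧸ D.M)).erase ((1 : G) : G ⧸ D.M)
  have ht : t.card = k - 1 := by
    rw [Finset.card_erase_of_mem (Finset.mem_univ _), Finset.card_univ, ← Nat.card_eq_fintype_card,
      ← index_eq_card]
  have hs : s.card = 1463 * (k - 1) := by
    have h := Finset.card_filter_add_card_filter_not (s := (Finset.univ : Finset G).filter (· ∈ D.T)) (· ∈ D.M)
    rw [Finset.filter_filter, Finset.filter_filter, ← Fintype.card_subtype, ← Fintype.card_subtype (· ∈ D.T),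
      ← Nat.card_eq_fintype_card, ← Nat.card_eq_fintype_card, D.subM_T hrec,
      show Nat.card {x : G // x ∈ D.T} = 1463 * k from hT] at h
    change 1463 + s.card = 1463 * k at h
    rw [Nat.mul_sub, mul_one]
    omega
  obtain ⟨q, -, hq⟩ := Finset.exists_lt_card_fiber_of_mul_lt_card_of_maps_to (s := s) (t := t)
    (f := fun v : G => (v : G ⧸ D.M)) (n := 1462) (fun v hv => by
      simp only [s, Finset.mem_filter] at hv
      refine Finset.mem_erase.2 ⟨fun e => hv.2.2 ?_, Finset.mem_univ _⟩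
      have := QuotientGroup.eq.1 e.symm
      simpa using this) (by rw [ht, hs]; omega)
  obtain ⟨u, hu⟩ := Finset.card_pos.1 (by omega : 0 < (s.filter fun v : G => (v : G ⧸ D.M) = q).card)
  simp only [s, Finset.mem_filter, Finset.mem_univ, true_and] at hu
  obtain ⟨⟨huT, huM⟩, huq⟩ := hu
  refine ⟨u, huT, huM, ?_⟩
  rw [Nat.card_eq_fintype_card, Fintype.card_subtype]
  refine le_trans hq (Finset.card_le_card fun v hv => ?_)
  simp only [s, Finset.mem_filter, Finset.mem_univ, true_and] at hv ⊢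
  exact ⟨hv.1.1, QuotientGroup.eq.1 (huq.trans hv.2.symm)⟩

include ih hcen hrec in
theorem false_of_proper (hM : D.M ≠ ⊤) : False := by
  classical
  set DM := D.subM
  obtain ⟨hcard, hsimple, -, hCN⟩ := DM.top_N D.subM_generated hrec
  haveI := hsimple
  obtain ⟨u, huT, huM, hbig⟩ := D.exists_big_coset hrec hM
  have hu2 : u * u = 1 := D.T_sq huT
  have hui : u⁻¹ = u := inv_eq_of_mul_eq_one_right hu2
  -- the automorphisms induced on `N_M`
  let ψ : D.M →* MulAut DM.N := MulAut.conjNormal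
  let ι : DM.N →* MulAut DM.N := ψ.comp DM.N.subtype
  have hψ : ∀ (m : D.M) (x : DM.N), ((ψ m x : DM.N) : D.M) = m * x * m⁻¹ := fun m x => MulAut.conjNormal_apply m x
  have hψ1 : ∀ m : D.M, ψ m = 1 → ∀ x ∈ DM.N, m * x = x * m := by
    intro m hm x hx
    have h := hψ m ⟨x, hx⟩
    rw [hm] at h
    calc m * x = m * x * m⁻¹ * m := by group
      _ = x * m := by rw [← h]; rfl
  have hιinj : Function.Injective ι := by
    rw [← MonoidHom.ker_eq_bot_iff]
    refine ((MonoidHom.normal_ker ι).eq_bot_or_eq_top).resolve_right fun h => ?_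
    have h2 : ι ⟨DM.t, DM.t_mem_N⟩ = 1 := MonoidHom.mem_ker.1 (h ▸ mem_top _)
    obtain ⟨n, hnN, -, hne⟩ := DM.move_N
    exact hne ((hψ1 _ h2 n hnN).symm)
  let X := D.meet u
  have hXodd : Odd (Nat.card X) := D.meet_odd ih hcen huT huM
  let X' : Subgroup D.M := X.subgroupOf D.M
  have hX'card : Nat.card X' = Nat.card X := Nat.card_congr (subgroupOfEquivOfLe inf_le_left).toEquiv
  let P : Subgroup DM.N := (X'.map ψ).comap ι
  have hXι : ∀ x ∈ X', ψ x ∈ ι.range := by
    intro x hx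
    have hox : Odd (orderOf x) := Odd.of_dvd_nat (hX'card ▸ hXodd) (Subgroup.orderOf_dvd_natCard _ hx)
    have hle : DM.N ⊔ centralizer (DM.N : Set D.M) ≤ ι.range.comap ψ := by
      refine sup_le (fun n hn => ⟨⟨n, hn⟩, rfl⟩) fun c hc => ⟨1, ?_⟩
      refine (map_one ι).trans (MulEquiv.ext fun y => Subtype.ext ?_)
      rw [hψ, ← mem_centralizer_iff.1 hc y y.2, mul_inv_cancel_right]
      rfl
    exact hle (DM.odd_mem_N_sup D.subM_generated hox)
  have hPodd : Odd (Nat.card P) := by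
    have h1 : Nat.card P ∣ Nat.card X' := by
      rw [Nat.card_congr (equivMapOfInjective P ι hιinj).toEquiv]
      exact (card_dvd_of_le (map_comap_le ι _)).trans (card_map_dvd _ _)
    exact Odd.of_dvd_nat (hX'card ▸ hXodd) h1
  have hcent : ∀ x : DM.N, orderOf x = 2 → Nat.card (centralizer ({x} : Set DM.N)) = 120 := by
    intro x hx
    have hx1 : x ≠ 1 := fun h => by rw [h, orderOf_one] at hx; norm_num at hx
    obtain ⟨n, hn⟩ := DM.subN.involution_mem_T DM.N_perfect (DM.subN_R_le D.subM_generated)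
      (by rw [← pow_two, ← hx, pow_orderOf_eq_one]) hx1
    have e : centralizer ({x} : Set DM.N) = DM.subN.f.range.map (MulAut.conj n).toMonoidHom := by
      ext z
      rw [mem_centralizer_singleton_iff]
      constructor
      · intro hz
        have hc : n⁻¹ * z * n ∈ DM.subN.C := DM.subN.mem_C.2 (by
          rw [← hn] at hz
          calc n⁻¹ * z * n * DM.subN.t = n⁻¹ * (z * (n * DM.subN.t * n⁻¹)) * n := by group
            _ = DM.subN.t * (n⁻¹ * z * n) := by rw [hz]; group)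
        obtain ⟨p, hp⟩ := hCN _ (congrArg Subtype.val (DM.subN.mem_C.1 hc) |> DM.mem_C.2) (n⁻¹ * z * n).2
        exact ⟨n⁻¹ * z * n, ⟨p, Subtype.ext hp⟩, by simp [mul_assoc]⟩
      · rintro ⟨w, hw, rfl⟩
        rw [← hn]
        show n * w * n⁻¹ * (n * DM.subN.t * n⁻¹) = n * DM.subN.t * n⁻¹ * (n * w * n⁻¹)
        rw [conj_mul, conj_mul, DM.subN.mem_C.1 (DM.subN.range_le_C hw)]
    rw [e, Nat.card_congr (equivMapOfInjective _ _ (MulEquiv.injective _)).toEquiv.symm, DM.subN.card_range]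
  have hPlt := odd_card_lt hcard hcent P hPodd
  -- the inverted elements map injectively
  have hF : ∀ v : {v : G // v ∈ D.T ∧ u⁻¹ * v ∈ D.M},
      u * v ∈ X ∧ u * (u * (v : G)) * u⁻¹ = (u * (v : G))⁻¹ := by
    rintro ⟨v, hvT, hv⟩
    rw [hui] at hv
    have h2 : u * (u * v) * u⁻¹ = (u * v)⁻¹ := by
      rw [← mul_assoc u u v, hu2, one_mul, mul_inv_rev, inv_eq_of_mul_eq_one_right (D.T_sq hvT)]
    refine ⟨⟨hv, ?_⟩, h2⟩
    show u * (u * v) * u⁻¹ ∈ D.M
    rw [h2]; exact D.M.inv_mem hv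
  have hFP : ∀ v : {v : G // v ∈ D.T ∧ u⁻¹ * v ∈ D.M}, ∃ p : P, ι p = ψ ⟨u * v, (hF v).1.1⟩ := by
    intro v
    have hx : (⟨u * v, (hF v).1.1⟩ : D.M) ∈ X' := (hF v).1
    obtain ⟨p, hp⟩ := hXι _ hx
    refine ⟨⟨p, ?_⟩, hp⟩
    show ι p ∈ X'.map ψ
    rw [hp]; exact mem_map_of_mem ψ hx
  choose F hFι using hFP
  have hFinj : Function.Injective F := by
    intro v w h
    have h1 : ψ ⟨u * v, (hF v).1.1⟩ = ψ ⟨u * w, (hF w).1.1⟩ := by rw [← hFι, ← hFι, h]
    set a : D.M := ⟨u * v, (hF v).1.1⟩ with ha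
    set b : D.M := ⟨u * w, (hF w).1.1⟩ with hb
    have ho : ψ (a⁻¹ * b) = 1 := by rw [map_mul, map_inv, h1, inv_mul_cancel]
    have ho' : ψ (a * b⁻¹) = 1 := by rw [map_mul, map_inv, h1, mul_inv_cancel]
    by_contra hne
    set o : G := ((a⁻¹ * b : D.M) : G) with hodef
    have ho1 : o ≠ 1 := by
      intro h0
      apply hne
      have : a = b := inv_mul_eq_one.1 (Subtype.ext h0)
      exact Subtype.ext (mul_left_cancel (congrArg Subtype.val this))
    have hoN : ∀ x ∈ DM.N, (x : G) * o = o * (x : G) := fun x hx =>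
      (congrArg Subtype.val (hψ1 _ ho x hx)).symm
    have hconj : u * o * u⁻¹ = ((a * b⁻¹ : D.M) : G) := by
      rw [hodef, coe_mul, coe_mul, coe_inv, coe_inv]
      show u * ((u * (v : G))⁻¹ * (u * w)) * u⁻¹ = u * v * (u * (w : G))⁻¹
      rw [← conj_mul, ← conj_inv, (hF v).2, (hF w).2, inv_inv]
    have hcomm : (u * D.t * u⁻¹) * o = o * (u * D.t * u⁻¹) := by
      have h2 : D.t * (u * o * u⁻¹) = u * o * u⁻¹ * D.t := by
        rw [hconj]
        exact (congrArg Subtype.val (hψ1 _ ho' DM.t DM.t_mem_N)).symm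
      calc (u * D.t * u⁻¹) * o = u * (D.t * (u⁻¹ * o * u⁻¹⁻¹)) * u⁻¹ := by group
        _ = u * ((u⁻¹ * o * u⁻¹⁻¹) * D.t) * u⁻¹ := by simp only [hui] at h2 ⊢; rw [h2]
        _ = o * (u * D.t * u⁻¹) := by group
    have hoc : o ∉ center G := by rw [hcen, mem_bot]; exact ho1
    have hfo : D.f.range ≤ centralizer {o} := by
      rintro _ ⟨x, rfl⟩
      exact mem_centralizer_singleton_iff.2
        (hoN ⟨D.f x, D.range_le_M ⟨x, rfl⟩⟩ (DM.range_le_N ⟨x, rfl⟩))
    obtain ⟨h0, h0N, h0NE, h0ne⟩ := DM.move_N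
    have hle := D.centralizer_le_M_of_move ih hoc hfo
      ⟨h0, mem_centralizer_singleton_iff.2 (hoN h0 h0N), D.sub_NE_le D.M D.range_le_M D.move_in_M h0NE,
        fun e => h0ne (Subtype.ext e)⟩
    have hM' : u * D.t * u⁻¹ ∈ D.M := hle (mem_centralizer_singleton_iff.2 hcomm)
    obtain ⟨m, hm, hme⟩ := D.T_M_conj ⟨u, rfl⟩ hM'
    have hc : m⁻¹ * u ∈ D.C := D.mem_C.2 (by
      calc m⁻¹ * u * D.t = m⁻¹ * (u * D.t * u⁻¹) * u := by group
        _ = D.t * (m⁻¹ * u) := by rw [← hme]; group)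
    have := D.M.mul_mem hm (D.C_le_M hc)
    rw [mul_inv_cancel_left] at this
    exact huM this
  have := Nat.card_le_card_of_injective F hFinj
  omega

end Setup

/-- `G` is generated by `N(E)` and `C(t)`. -/
theorem generated (hrec : RecJ1.{u}) : ∀ (G : Type u) [Group G] [Finite G] (D : Setup G), D.Generated := by
  suffices h : ∀ n, ∀ (G : Type u) [Group G] [Finite G] (D : Setup G), Nat.card G = n → D.Generated from
    fun G _ _ D => h _ G D rfl
  intro n
  induction n using Nat.strong_induction_on with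
  | _ n IH =>
    intro G _ _ D hn
    have ih : ∀ (H : Type u) [Group H] [Finite H] (D' : Setup H), Nat.card H < Nat.card G → D'.Generated :=
      fun H _ _ D' hlt => IH _ (hn ▸ hlt) H D' rfl
    by_cases hcen : center G = ⊥
    · by_contra hne
      exact D.false_of_proper ih hcen hrec hne
    · refine D.generated_of_quot (center G) le_rfl (ih _ _ ?_)
      have h1 := Subgroup.card_eq_card_quotient_mul_card_subgroup (center G)
      have h2 : 1 < Nat.card (center G) := by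
        haveI : Nontrivial (center G) := (Subgroup.nontrivial_iff_ne_bot _).2 hcen
        exact Finite.one_lt_card
      have h3 : 0 < Nat.card (G ⧸ center G) := Nat.card_pos
      rw [h1]
      exact lt_mul_of_one_lt_right h3 h2

end Cfsg.Agent.J1WeakClosure
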