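import Cfsg.Agent.Lib.J1WeakClosure.Induction
import Cfsg.Agent.Lib.JankoRecog.Main

/-!
# The weak closure of `t` in `C(t)` is `Z₂ × A₅`: the normal closure of `t` is J₁
-/

set_option autoImplicit false

namespace Cfsg.Agent.J1WeakClosure

open Cfsg.Agent.HJType.AltFive (A5 v0 v1 h3)
open Subgroup

universe u

/-- Janko's recognition theorem in the form used by the induction. -/
theorem recJ1 : RecJ1.{u} := by
  intro X _ _ _ S hS h8 t ht he
  obtain ⟨e⟩ := he
  haveI : Fact (Nat.Prime 2) := ⟨Nat.prime_two⟩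
  have hiso := JankoRecog.isoJ1_of_centralizer
    (fun P : Sylow 2 X => by rw [P.card_eq_multiplicity, ← S.card_eq_multiplicity]; exact h8) ht e
  obtain ⟨f⟩ := hiso
  exact ⟨by rw [Nat.card_congr f.toEquiv, Cfsg.Agent.Janko.J1.card_J1], ⟨f⟩⟩

/-- The central involution of `Z₂ × A₅`. -/
theorem center_involution : ∀ p : Multiplicative (ZMod 2) × A5, p.2 * v0 = v0 * p.2 → p.2 * h3 = h3 * p.2 →
    p ≠ 1 → p = (Multiplicative.ofAdd 1, 1) := by
  have key : ∀ a : A5, a * v0 = v0 * a → a * h3 = h3 * a → a = 1 := by decide +kernel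
  rintro ⟨i, a⟩ h1 h2 h
  obtain rfl : a = 1 := key a h1 h2
  rcases Setup.zmod_cases i with rfl | rfl
  · exact absurd rfl h
  · rfl

/-- The setup of the statement. -/
theorem exists_setup {G : Type u} [Group G] [Finite G] (t : G) (ht : orderOf t = 2) (S : Sylow 2 G)
    (htS : t ∈ (S : Subgroup G)) (htc : ∀ s ∈ (S : Subgroup G), s * t = t * s)
    (hW : Nonempty (↥(Subgroup.closure {x : G | ∃ g : G, x = g * t * g⁻¹ ∧ x * t = t * x}) ≃*
      (Multiplicative (ZMod 2) × ↥(alternatingGroup (Fin 5))))) :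
    ∃ D : Setup G, D.t = t := by
  obtain ⟨e⟩ := hW
  set X := {x : G | ∃ g : G, x = g * t * g⁻¹ ∧ x * t = t * x} with hX
  have htW : t ∈ closure X := subset_closure ⟨1, by simp, rfl⟩
  have hcomm : ∀ w ∈ closure X, w * t = t * w := fun w hw => by
    have : closure X ≤ centralizer {t} :=
      (closure_le _).2 fun x ⟨g, _, h⟩ => mem_centralizer_singleton_iff.2 h
    exact mem_centralizer_singleton_iff.1 (this hw)
  have hz : ∀ p, e ⟨t, htW⟩ * p = p * e ⟨t, htW⟩ := fun p => by
    obtain ⟨⟨w, hw⟩, rfl⟩ := e.surjective p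
    rw [← map_mul, ← map_mul]
    exact congrArg e (Subtype.ext (hcomm w hw).symm)
  have ht' : e ⟨t, htW⟩ = (Multiplicative.ofAdd 1, 1) := by
    refine center_involution _ (congrArg Prod.snd (hz (1, v0))) (congrArg Prod.snd (hz (1, h3))) fun h => ?_
    have h2 : t = 1 := congrArg Subtype.val (e.injective (h.trans (map_one e).symm))
    rw [h2, orderOf_one] at ht; norm_num at ht
  refine ⟨
    { t := t
      f := (closure X).subtype.comp e.symm.toMonoidHom
      f_inj := (closure X).subtype_injective.comp e.symm.injective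
      f_t := by
        show ((e.symm (Multiplicative.ofAdd 1, 1) : closure X) : G) = t
        rw [← ht', MulEquiv.symm_apply_apply]
      two_central := ⟨ht, S, htS, htc⟩
      conj_mem := fun g hg => ?_
      moved := ?_ }, rfl⟩
  · refine ⟨e ⟨_, subset_closure ⟨g, rfl, hg⟩⟩, ?_⟩
    show ((e.symm (e ⟨g * t * g⁻¹, _⟩) : closure X) : G) = _
    rw [MulEquiv.symm_apply_apply]
  · by_contra hall
    push Not at hall
    have hsub : closure X ≤ zpowers t := (closure_le _).2 fun x ⟨g, hx, hc⟩ => by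
      rw [hx] at hc ⊢
      rw [SetLike.mem_coe, hall g hc]
      exact mem_zpowers t
    have h2 : e.symm (1, v0) * e.symm (1, h3) = e.symm (1, h3) * e.symm (1, v0) := by
      apply Subtype.ext
      obtain ⟨i, hi⟩ := mem_zpowers_iff.1 (hsub (e.symm (1, v0)).2)
      obtain ⟨j, hj⟩ := mem_zpowers_iff.1 (hsub (e.symm (1, h3)).2)
      rw [coe_mul, coe_mul, ← hi, ← hj, ← zpow_add, ← zpow_add, add_comm]
    rw [← map_mul, ← map_mul] at h2
    exact absurd (congrArg Prod.snd (e.symm.injective h2)) (by decide +kernel)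

/-- Janko's weak-closure characterisation of J₁. -/
theorem main {G : Type u} [Group G] [Finite G] (t : G) (ht : orderOf t = 2) (S : Sylow 2 G)
    (htS : t ∈ (S : Subgroup G)) (htc : ∀ s ∈ (S : Subgroup G), s * t = t * s)
    (hW : Nonempty (↥(Subgroup.closure {x : G | ∃ g : G, x = g * t * g⁻¹ ∧ x * t = t * x}) ≃*
      (Multiplicative (ZMod 2) × ↥(alternatingGroup (Fin 5))))) :
    Cfsg.Spor.IsoJ1 ↥(Subgroup.normalClosure ({t} : Set G)) := by
  obtain ⟨D, rfl⟩ := exists_setup t ht S htS htc hW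
  exact (D.top_N (generated recJ1 G D) recJ1).2.2.1

end Cfsg.Agent.J1WeakClosure
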