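import Cfsg.Agent.Lib.J1WeakClosure.Orbit

/-!
# `N(E)` centralizes a complement of `E` in `C(E)` modulo squares
-/

set_option autoImplicit false

namespace Cfsg.Agent.J1WeakClosure

open Cfsg.Agent.HJType.AltFive (A5 v0 v1 h3)
open Subgroup

namespace Setup

variable {G : Type*} [Group G] (D : Setup G)

theorem mem_Y {x : G} : x ∈ D.Y ↔ x * D.t = D.t * x ∧ ∀ a, D.iA a * x = x * D.iA a := by
  rw [Y, mem_inf, mem_C]
  refine and_congr_right fun _ => ?_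
  rw [mem_centralizer_iff]
  exact ⟨fun h a => h _ (D.mem_A a), by rintro h _ ⟨a, rfl⟩; exact h a⟩

theorem t_mem_Y : D.t ∈ D.Y := D.mem_Y.2 ⟨rfl, fun _ => D.t_comm_f _⟩

theorem Y_comm_A {y : G} (hy : y ∈ D.Y) (a : A5) : D.iA a * y = y * D.iA a := (D.mem_Y.1 hy).2 a

theorem Y_le_CE : D.Y ≤ D.CE := fun y hy => mem_centralizer_iff.2 fun e he => by
  obtain ⟨i, a, -, rfl⟩ := D.mem_E.1 he
  rcases D.f_eq i a with h | h <;> rw [h]
  · exact D.Y_comm_A hy a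
  · rw [mul_assoc, D.Y_comm_A hy a, ← mul_assoc, ← (D.mem_Y.1 hy).1, mul_assoc]

theorem exists_conj_hom {c : G} (hc : c ∈ D.C) :
    ∃ f : A5 →* A5, Function.Injective f ∧ ∀ b, c * D.iA b * c⁻¹ = D.iA (f b) := by
  have h : ∀ b, ∃ b', c * D.iA b * c⁻¹ = D.iA b' := fun b => by
    obtain ⟨b', hb⟩ := D.conj_A hc (D.mem_A b); exact ⟨b', hb.symm⟩
  choose p hp using h
  refine ⟨MonoidHom.mk' p fun a b => D.iA_inj ?_, fun a b hab => D.iA_inj ?_, hp⟩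
  · rw [← hp, map_mul, map_mul, ← conj_mul, hp, hp]
  · have := congrArg D.iA hab
    simp only [MonoidHom.mk'_apply] at this
    rw [← hp, ← hp] at this
    exact mul_left_cancel (mul_right_cancel this)

theorem CE_decomp {c : G} (hc : c ∈ D.CE) : ∃ a ∈ V0, ∃ y ∈ D.Y, c = D.iA a * y := by
  obtain ⟨f, hf, hfs⟩ := D.exists_conj_hom (D.CE_le_C hc)
  have hfix : ∀ b ∈ V0, f b = b := fun b hb => D.iA_inj (by rw [← hfs, D.CE_conj hc (D.iA_mem_E hb)])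
  obtain ⟨a, ha, hfa⟩ := fixing_V0 hf (hfix _ v0_mem) (hfix _ v1_mem)
  refine ⟨a, ha, (D.iA a)⁻¹ * c, D.mem_Y.2 ⟨D.mem_C.1 (D.C.mul_mem (D.C.inv_mem (D.iA_mem_C a)) (D.CE_le_C hc)),
    fun b => ?_⟩, by group⟩
  have h := hfs b
  rw [hfa, map_mul, map_mul, map_inv] at h
  calc D.iA b * ((D.iA a)⁻¹ * c) = (D.iA a)⁻¹ * (D.iA a * D.iA b * (D.iA a)⁻¹) * c := by group
    _ = (D.iA a)⁻¹ * c * D.iA b := by rw [← h]; group

theorem iA_mul_Y_mem_CE {a : A5} (ha : a ∈ V0) {y : G} (hy : y ∈ D.Y) : D.iA a * y ∈ D.CE :=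
  D.CE.mul_mem (D.E_le_CE (D.iA_mem_E ha)) (D.Y_le_CE hy)

variable [Finite G]

theorem C_decomp {c : G} (hc : c ∈ D.C) : ∃ a, ∃ y ∈ D.Y, c = D.iA a * y := by
  obtain ⟨f, hf, hfs⟩ := D.exists_conj_hom hc
  obtain ⟨d, hd0, hd1⟩ := HJType.AltFive.four_conj (f v0) (by rw [← map_mul, V0_sq _ v0_mem, map_one])
    (fun h => absurd (hf (h.trans (map_one f).symm)) (by decide +kernel)) (f v1)
    (by rw [← map_mul, V0_sq _ v1_mem, map_one])
    (fun h => absurd (hf (h.trans (map_one f).symm)) (by decide +kernel))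
    (by rw [← map_mul, V0_comm _ _ v0_mem v1_mem, map_mul])
    (fun h => absurd (hf h) (by decide +kernel))
  have hmC : D.iA d * c ∈ D.C := D.C.mul_mem (D.iA_mem_C d) hc
  have hconj : ∀ b, D.iA d * c * D.iA b * (D.iA d * c)⁻¹ = D.iA (d * f b * d⁻¹) := fun b => by
    rw [map_mul, map_mul, map_inv, ← hfs]; group
  have hV : ∀ b ∈ V0, d * f b * d⁻¹ ∈ V0 := by
    rintro b (rfl | rfl | rfl | rfl)
    · simp [V0.one_mem]
    · exact Or.inr hd0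
    · exact Or.inr hd1
    · rw [map_mul, ← conj_mul]; exact V0.mul_mem (Or.inr hd0) (Or.inr hd1)
  have hmN : D.iA d * c ∈ D.NE := D.weakly_closed D.E_isPGroup le_rfl fun e he => by
    obtain ⟨i, a, ha, rfl⟩ := D.mem_E.1 he
    rcases D.f_eq i a with h | h <;> rw [h]
    · rw [hconj]; exact D.iA_mem_E (hV a ha)
    · rw [← conj_mul, hconj, D.mem_C.1 hmC, mul_inv_cancel_right]
      exact D.E.mul_mem D.t_mem_E (D.iA_mem_E (hV a ha))
  obtain ⟨i, hi⟩ := D.stab_decomp hmN hmC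
  obtain ⟨a, -, y, hy, hay⟩ := D.CE_decomp hi
  refine ⟨d⁻¹ * h3 ^ i * a, y, hy, ?_⟩
  rw [map_mul, map_mul, map_inv, map_pow]
  change c = (D.iA d)⁻¹ * D.g ^ i * D.iA a * y
  calc c = (D.iA d)⁻¹ * D.g ^ i * ((D.g ^ i)⁻¹ * (D.iA d * c)) := by group
    _ = _ := by rw [hay]; group

theorem NE_conj_CE {n c : G} (hn : n ∈ D.NE) (hc : c ∈ D.CE) : n * c * n⁻¹ ∈ D.CE :=
  D.mem_CE_of_conj fun e he => by
    have he' := D.conj_mem_E (D.NE.inv_mem hn) he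
    calc n * c * n⁻¹ * e * (n * c * n⁻¹)⁻¹ = n * (c * (n⁻¹ * e * n⁻¹⁻¹) * c⁻¹) * n⁻¹ := by group
      _ = e := by rw [D.CE_conj hc he']; group

/-- The subgroup generated by the squares of `C(E)`. -/
def R : Subgroup G := closure {x | ∃ c ∈ D.CE, c * c = x}

omit [Finite G] in
theorem sq_mem_R {c : G} (hc : c ∈ D.CE) : c * c ∈ D.R := subset_closure ⟨c, hc, rfl⟩

omit [Finite G] in
theorem R_le_Y : D.R ≤ D.Y := by
  refine (closure_le _).2 ?_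
  rintro _ ⟨c, hc, rfl⟩
  obtain ⟨a, ha, y, hy, rfl⟩ := D.CE_decomp hc
  have : D.iA a * y * (D.iA a * y) = y * y := by
    calc D.iA a * y * (D.iA a * y) = D.iA a * (y * D.iA a) * y := by group
      _ = D.iA (a * a) * (y * y) := by rw [← D.Y_comm_A hy a, map_mul]; group
      _ = y * y := by rw [V0_sq a ha, map_one, one_mul]
  rw [SetLike.mem_coe, this]
  exact D.Y.mul_mem hy hy

omit [Finite G] in
theorem R_le_CE : D.R ≤ D.CE := D.R_le_Y.trans D.Y_le_CE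

theorem NE_conj_R {n r : G} (hn : n ∈ D.NE) (hr : r ∈ D.R) : n * r * n⁻¹ ∈ D.R := by
  have h : D.R.map (MulAut.conj n).toMonoidHom ≤ D.R := by
    rw [R, MonoidHom.map_closure]
    refine (closure_le _).2 ?_
    rintro _ ⟨_, ⟨c, hc, rfl⟩, rfl⟩
    exact subset_closure ⟨n * c * n⁻¹, D.NE_conj_CE hn hc, (map_mul (MulAut.conj n) c c).symm⟩
  exact h ⟨r, hr, rfl⟩

omit [Finite G] in
theorem comm_mem_R {a b : G} (ha : a ∈ D.CE) (hb : b ∈ D.CE) : a * b * a⁻¹ * b⁻¹ ∈ D.R := by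
  have h : a * b * a⁻¹ * b⁻¹ = a * b * (a * b) * ((b⁻¹ * a⁻¹ * b) * (b⁻¹ * a⁻¹ * b) * (b⁻¹ * b⁻¹)) := by
    group
  rw [h]
  exact D.R.mul_mem (D.sq_mem_R (D.CE.mul_mem ha hb)) (D.R.mul_mem
    (D.sq_mem_R (D.CE.mul_mem (D.CE.mul_mem (D.CE.inv_mem hb) (D.CE.inv_mem ha)) hb))
    (D.sq_mem_R (D.CE.inv_mem hb)))

theorem E_inf_R {e : G} (he : e ∈ D.E) (hr : e ∈ D.R) : e = 1 := by
  by_contra h1
  obtain ⟨n, hn, hne⟩ := D.transitive he h1
  obtain ⟨m, hm, hme⟩ := D.transitive (D.iA_mem_E v0_mem) fun h =>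
    absurd (D.iA_inj (h.trans (map_one D.iA).symm)) (by decide +kernel)
  have h := D.NE_conj_R (D.NE.mul_mem hm (D.NE.inv_mem hn)) hr
  have e2 : m * n⁻¹ * e * (m * n⁻¹)⁻¹ = D.iA v0 := by rw [← hne, ← hme]; group
  rw [e2] at h
  have := D.Y_comm_A (D.R_le_Y h) h3
  rw [← map_mul, ← map_mul] at this
  exact absurd (D.iA_inj this) (by decide +kernel)

theorem ER_unique {e e' r r' : G} (he : e ∈ D.E) (he' : e' ∈ D.E) (hr : r ∈ D.R) (hr' : r' ∈ D.R)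
    (h : e * r = e' * r') : e = e' := by
  have h1 : e'⁻¹ * e = r' * r⁻¹ := by
    calc e'⁻¹ * e = e'⁻¹ * (e * r) * r⁻¹ := by group
      _ = r' * r⁻¹ := by rw [h]; group
  have := D.E_inf_R (D.E.mul_mem (D.E.inv_mem he') he) (h1 ▸ D.R.mul_mem hr' (D.R.inv_mem hr))
  exact (inv_mul_eq_one.1 this).symm

omit [Finite G] in
theorem R_comm_E {r e : G} (hr : r ∈ D.R) (he : e ∈ D.E) : e * r = r * e := D.CE_comm (D.R_le_CE hr) he

/-- A subgroup containing the stabilizer of `t` and moving `t` contains `N(E)`. -/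
theorem NE_le {H : Subgroup G} (hCE : D.CE ≤ H) (hg : D.g ∈ H)
    (hmove : ∃ h ∈ H, h ∈ D.NE ∧ h * D.t ≠ D.t * h) : D.NE ≤ H := by
  classical
  obtain ⟨h, hH, hN, hne⟩ := hmove
  set K := H ⊓ D.NE with hK
  have hP : D.NE ⊓ centralizer {D.t} ≤ K := fun n hn => by
    obtain ⟨i, hi⟩ := D.stab_decomp hn.1 hn.2
    have : n = D.g ^ i * ((D.g ^ i)⁻¹ * n) := by group
    exact ⟨this ▸ H.mul_mem (H.pow_mem hg i) (hCE hi), hn.1⟩
  have hKC : K ⊓ centralizer {D.t} = D.NE ⊓ centralizer {D.t} :=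
    le_antisymm (inf_le_inf inf_le_right le_rfl) (le_inf hP inf_le_right)
  have h1 := HallJankoType.card_orbit_mul K D.t
  have h2 := HallJankoType.card_orbit_mul D.NE D.t
  rw [show Nat.card {v : G // ∃ n ∈ D.NE, n * D.t * n⁻¹ = v} = 7 from D.orb_card] at h2
  rw [hKC] at h1
  set P := Nat.card (D.NE ⊓ centralizer {D.t} : Subgroup G)
  set o := Nat.card {v : G // ∃ n ∈ K, n * D.t * n⁻¹ = v}
  have hP0 : 0 < P := Nat.card_pos
  have hdvd : o * P ∣ 7 * P := by rw [h1, h2]; exact card_dvd_of_le inf_le_right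
  have ho : o ∣ 7 := Nat.dvd_of_mul_dvd_mul_right hP0 hdvd
  have ho1 : 1 < o := by
    have : Nontrivial {v : G // ∃ n ∈ K, n * D.t * n⁻¹ = v} :=
      ⟨⟨D.t, 1, K.one_mem, by simp⟩, ⟨_, h, ⟨hH, hN⟩, rfl⟩, fun e => hne (by
        have e' : D.t = h * D.t * h⁻¹ := congrArg Subtype.val e
        calc h * D.t = h * D.t * h⁻¹ * h := by group
          _ = D.t * h := by rw [← e'])⟩
    exact Finite.one_lt_card
  have ho7 : o = 7 := ((Nat.dvd_prime (by norm_num)).1 ho).resolve_left (by omega)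
  have : K = D.NE := eq_of_le_of_card_ge inf_le_right (by rw [← h1, ← h2, ho7])
  exact this ▸ inf_le_left

/-- The elements of `N(E)` acting trivially on `C(E)` modulo `E R`: all of them. -/
theorem conj_CE_mod {n c : G} (hn : n ∈ D.NE) (hc : c ∈ D.CE) :
    ∃ e ∈ D.E, ∃ r ∈ D.R, n * c * n⁻¹ = e * r * c := by
  let K : Submonoid G :=
    { carrier := {n | n ∈ D.NE ∧ ∀ c ∈ D.CE, ∃ e ∈ D.E, ∃ r ∈ D.R, n * c * n⁻¹ = e * r * c}
      one_mem' := ⟨D.NE.one_mem, fun c _ => ⟨1, D.E.one_mem, 1, D.R.one_mem, by simp⟩⟩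
      mul_mem' := by
        rintro a b ⟨ha, ha'⟩ ⟨hb, hb'⟩
        refine ⟨D.NE.mul_mem ha hb, fun c hc => ?_⟩
        obtain ⟨e, he, r, hr, h⟩ := hb' c hc
        obtain ⟨e', he', r', hr', h'⟩ := ha' c hc
        refine ⟨a * e * a⁻¹ * e', D.E.mul_mem (D.conj_mem_E ha he) he',
          a * r * a⁻¹ * r', D.R.mul_mem (D.NE_conj_R ha hr) hr', ?_⟩
        calc a * b * c * (a * b)⁻¹ = a * (b * c * b⁻¹) * a⁻¹ := by group
          _ = a * e * a⁻¹ * (a * r * a⁻¹) * (a * c * a⁻¹) := by rw [h]; group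
          _ = a * e * a⁻¹ * (a * r * a⁻¹) * (e' * r' * c) := by rw [h']
          _ = a * e * a⁻¹ * ((a * r * a⁻¹) * e') * r' * c := by group
          _ = _ := by rw [← D.R_comm_E (D.NE_conj_R ha hr) he']; group }
  let H : Subgroup G :=
    { K with
      inv_mem' := fun {x} hx => by
        have := pow_mem (S := K) hx (orderOf x - 1)
        rwa [show x⁻¹ = x ^ (orderOf x - 1) from inv_eq_of_mul_eq_one_right (by
          rw [← pow_succ', Nat.sub_add_cancel (orderOf_pos x), pow_orderOf_eq_one])] }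
  have hCE : D.CE ≤ H := fun x hx => ⟨D.CE_le_NE hx, fun c hc =>
    ⟨1, D.E.one_mem, _, D.comm_mem_R hx hc, by group⟩⟩
  have hg : D.g ∈ H := ⟨D.g_mem_NE, fun c hc => by
    obtain ⟨a, ha, y, hy, rfl⟩ := D.CE_decomp hc
    refine ⟨D.iA (h3 * a * h3⁻¹ * a), D.iA_mem_E (V0.mul_mem (h3_normalizes a ha) ha), 1, D.R.one_mem, ?_⟩
    have h1 : D.g * y = y * D.g := D.Y_comm_A hy h3
    calc D.g * (D.iA a * y) * D.g⁻¹ = D.g * D.iA a * D.g⁻¹ * (D.g * y) * D.g⁻¹ := by group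
      _ = D.g * D.iA a * D.g⁻¹ * y := by rw [h1]; group
      _ = D.iA (h3 * a * h3⁻¹) * y := by rw [g, map_mul, map_mul, map_inv]
      _ = D.iA (h3 * a * h3⁻¹ * (a * a)) * y := by rw [V0_sq a ha, mul_one]
      _ = _ := by simp only [map_mul]; group⟩
  have hconj : ∀ m ∈ D.NE, ∀ x ∈ H, m * x * m⁻¹ ∈ H := by
    intro m hm x hx
    refine ⟨D.NE.mul_mem (D.NE.mul_mem hm hx.1) (D.NE.inv_mem hm), fun c hc => ?_⟩
    obtain ⟨e, he, r, hr, h⟩ := hx.2 (m⁻¹ * c * m⁻¹⁻¹) (D.NE_conj_CE (D.NE.inv_mem hm) hc)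
    refine ⟨_, D.conj_mem_E hm he, _, D.NE_conj_R hm hr, ?_⟩
    calc m * x * m⁻¹ * c * (m * x * m⁻¹)⁻¹ = m * (x * (m⁻¹ * c * m⁻¹⁻¹) * x⁻¹) * m⁻¹ := by group
      _ = _ := by rw [h]; group
  refine (D.NE_le hCE hg ?_ hn).2 c hc
  obtain ⟨m, hm, hme⟩ := D.transitive (D.iA_mem_E v0_mem) fun h =>
    absurd (D.iA_inj (h.trans (map_one D.iA).symm)) (by decide +kernel)
  refine ⟨m⁻¹ * D.g * m⁻¹⁻¹, hconj _ (D.NE.inv_mem hm) _ hg,
    D.NE.mul_mem (D.NE.mul_mem (D.NE.inv_mem hm) D.g_mem_NE) (D.NE.inv_mem (D.NE.inv_mem hm)), fun h => ?_⟩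
  have h2 : D.g * D.iA v0 = D.iA v0 * D.g := by
    rw [← hme]
    calc D.g * (m * D.t * m⁻¹) = m * ((m⁻¹ * D.g * m⁻¹⁻¹) * D.t) * m⁻¹ := by group
      _ = m * D.t * m⁻¹ * D.g := by rw [h]; group
  rw [g, ← map_mul, ← map_mul] at h2
  exact absurd (D.iA_inj h2) (by decide +kernel)

/-- An element of `N(E)` inducing an element of order seven. -/
theorem exists_seven : ∃ s ∈ D.NE, s ^ 7 ∈ D.CE ∧ (∀ n ∈ D.NE, ∃ k : ℕ, (s ^ k)⁻¹ * (n * s * n⁻¹) ∈ D.CE) ∧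
    (∀ e ∈ D.E, s * e * s⁻¹ = e → e = 1) := by
  obtain ⟨σ, hσ, hnorm, hreg⟩ := D.exists_sigma
  obtain ⟨⟨s, hs⟩, hsσ⟩ := D.act.rangeRestrict_surjective σ
  have hker : ∀ x : D.NE, D.act.rangeRestrict x = 1 → (x : G) ∈ D.CE := fun x hx =>
    D.act_eq_one.1 (congrArg Subtype.val hx)
  refine ⟨s, hs, ?_, fun n hn => ?_, fun e he hfix => ?_⟩
  · exact hker (⟨s, hs⟩ ^ 7) (by rw [map_pow, hsσ, ← hσ, pow_orderOf_eq_one])
  · obtain ⟨k, hk⟩ := hnorm (D.act.rangeRestrict ⟨n, hn⟩)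
    refine ⟨k, ?_⟩
    have := hker ((⟨s, hs⟩ ^ k)⁻¹ * (⟨n, hn⟩ * ⟨s, hs⟩ * (⟨n, hn⟩)⁻¹)) (by
      rw [map_mul, map_mul, map_mul, map_inv, map_inv, map_pow, hsσ, hk, inv_mul_cancel])
    simpa using this
  · by_contra he1
    obtain ⟨m, hm, hme⟩ := D.transitive he he1
    obtain ⟨k, hk⟩ := hnorm (D.act.rangeRestrict ⟨m, hm⟩)⁻¹
    have hmem : σ ^ k ∈ D.Stab := by
      refine ⟨(⟨m, hm⟩ : D.NE)⁻¹ * ⟨s, hs⟩ * ⟨m, hm⟩, D.mem_C.2 ?_, ?_⟩
      · show m⁻¹ * s * m * D.t = D.t * (m⁻¹ * s * m)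
        rw [← hme] at hfix
        calc m⁻¹ * s * m * D.t = m⁻¹ * (s * (m * D.t * m⁻¹) * s⁻¹) * s * m := by group
          _ = D.t * (m⁻¹ * s * m) := by rw [hfix]; group
      · rw [← hk, map_mul, map_mul, map_inv, hsσ, inv_inv]
    have h7 : σ ^ k = 1 := orderOf_dvd_iff_pow_eq_one.1 (hσ ▸ hreg k hmem)
    rw [h7, conj_eq_one_iff] at hk
    rw [hk, orderOf_one] at hσ
    norm_num at hσ

/-- In every coset of `E` in `C(E)` some element of `Y` is centralized by `N(E)` modulo `R`. -/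
theorem exists_fixed {y : G} (hy : y ∈ D.Y) :
    ∃ e, (e = 1 ∨ e = D.t) ∧ ∀ n ∈ D.NE, ∃ r ∈ D.R, n * (e * y) * n⁻¹ = r * (e * y) := by
  classical
  haveI : Fact (Nat.Prime 7) := ⟨by norm_num⟩
  haveI := Fintype.ofFinite D.E
  obtain ⟨s, hs, hs7, hsn, hsfix⟩ := D.exists_seven
  have hey : ∀ e ∈ D.E, e * y ∈ D.CE := fun e he => D.CE.mul_mem (D.E_le_CE he) (D.Y_le_CE hy)
  have hex : ∀ e : D.E, ∃ e' : D.E, ∃ r ∈ D.R, s * ((e : G) * y) * s⁻¹ = e' * r * y := by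
    intro e
    obtain ⟨e', he', r, hr, h⟩ := D.conj_CE_mod hs (hey e e.2)
    refine ⟨⟨e' * e, D.E.mul_mem he' e.2⟩, r, hr, ?_⟩
    rw [h]
    calc e' * r * ((e : G) * y) = e' * (r * (e : G)) * y := by group
      _ = e' * (e : G) * r * y := by rw [← D.R_comm_E hr e.2]; group
  choose β r hr hβ using hex
  have huniq : ∀ {e e' : G} {r r' : G}, e ∈ D.E → e' ∈ D.E → r ∈ D.R → r' ∈ D.R →
      e * r * y = e' * r' * y → e = e' := fun he he' hr hr' h =>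
    D.ER_unique he he' hr hr' (mul_right_cancel h)
  have hyR : ∀ r ∈ D.R, y * r * y⁻¹ ∈ D.R := fun r hr =>
    D.NE_conj_R (D.CE_le_NE (D.Y_le_CE hy)) hr
  have hiter : ∀ (i : ℕ) (e : D.E), ∃ r ∈ D.R, s ^ i * ((e : G) * y) * (s ^ i)⁻¹ = (β^[i] e : D.E) * r * y := by
    intro i
    induction i with
    | zero => exact fun e => ⟨1, D.R.one_mem, by simp⟩
    | succ i ih =>
      intro e
      obtain ⟨q, hq, h⟩ := ih e
      have hq' := D.NE_conj_R (D.NE.inv_mem (D.CE_le_NE (D.Y_le_CE hy))) hq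
      refine ⟨r (β^[i] e) * (y * (s * (y⁻¹ * q * y⁻¹⁻¹) * s⁻¹) * y⁻¹),
        D.R.mul_mem (hr _) (hyR _ (D.NE_conj_R hs hq')), ?_⟩
      rw [Function.iterate_succ_apply']
      calc s ^ (i + 1) * ((e : G) * y) * (s ^ (i + 1))⁻¹
          = s * (s ^ i * ((e : G) * y) * (s ^ i)⁻¹) * s⁻¹ := by rw [pow_succ']; group
        _ = (s * (((β^[i] e : D.E) : G) * y) * s⁻¹) * (s * (y⁻¹ * q * y⁻¹⁻¹) * s⁻¹) := by rw [h]; group
        _ = _ := by rw [hβ]; group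
  have hinj : Function.Injective β := by
    intro e e' h
    have h1 := hβ e
    have h2 := hβ e'
    rw [h] at h1
    have h3 : s * ((e : G) * (e' : G)⁻¹) * s⁻¹ = (β e' : G) * (r e * (r e')⁻¹) * (β e' : G)⁻¹ := by
      calc s * ((e : G) * (e' : G)⁻¹) * s⁻¹ = (s * ((e : G) * y) * s⁻¹) * (s * ((e' : G) * y) * s⁻¹)⁻¹ := by group
        _ = _ := by rw [h1, h2]; group
    rw [D.R_comm_E (D.R.mul_mem (hr e) (D.R.inv_mem (hr e'))) (β e').2, mul_inv_cancel_right] at h3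
    have := D.E_inf_R (D.conj_mem_E hs (D.E.mul_mem e.2 (D.E.inv_mem e'.2)))
      (h3 ▸ D.R.mul_mem (hr e) (D.R.inv_mem (hr e')))
    exact Subtype.ext (mul_inv_eq_one.1 (conj_eq_one_iff.1 this))
  let π : Equiv.Perm D.E := Equiv.ofBijective β (Finite.injective_iff_bijective.1 hinj)
  have hπ : π ^ 7 ^ 1 = 1 := by
    refine Equiv.ext fun e => ?_
    rw [pow_one, Equiv.Perm.coe_pow, Equiv.Perm.one_apply]
    obtain ⟨q, hq, h⟩ := hiter 7 e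
    have hc : s ^ 7 * ((e : G) * y) * (s ^ 7)⁻¹ = (e : G) * ((e : G)⁻¹ * (s ^ 7 * ((e : G) * y) * (s ^ 7)⁻¹ * ((e : G) * y)⁻¹) * (e : G)⁻¹⁻¹) * y := by group
    refine Subtype.ext (huniq (SetLike.coe_mem _) e.2 hq ?_ (h.symm.trans hc))
    exact D.NE_conj_R (D.NE.inv_mem (D.CE_le_NE (D.E_le_CE e.2))) (D.comm_mem_R hs7 (hey e e.2))
  obtain ⟨e, he⟩ := Equiv.Perm.exists_fixed_point_of_prime (p := 7) (n := 1)
    (by rw [← Nat.card_eq_fintype_card, D.card_E]; decide) hπ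
  change β e = e at he
  have hfixed : ∀ x : D.E, (∃ q ∈ D.R, s * ((x : G) * y) * s⁻¹ = x * q * y) → x = e := by
    rintro x ⟨q, hq, hx⟩
    have h2 := hβ e
    rw [he] at h2
    have h3 : s * ((x : G) * (e : G)⁻¹) * s⁻¹ = (x : G) * (q * (r e)⁻¹) * (e : G)⁻¹ := by
      calc s * ((x : G) * (e : G)⁻¹) * s⁻¹ = (s * ((x : G) * y) * s⁻¹) * (s * ((e : G) * y) * s⁻¹)⁻¹ := by group
        _ = _ := by rw [hx, h2]; group
    have hq2 := D.R.mul_mem hq (D.R.inv_mem (hr e))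
    rw [show (x : G) * (q * (r e)⁻¹) * (e : G)⁻¹ = (x : G) * (e : G)⁻¹ * (q * (r e)⁻¹) by
      rw [mul_assoc, ← D.R_comm_E hq2 (D.E.inv_mem e.2), ← mul_assoc]] at h3
    have hxe := D.E.mul_mem x.2 (D.E.inv_mem e.2)
    have := D.ER_unique (D.conj_mem_E hs hxe) hxe D.R.one_mem hq2 (by rw [mul_one]; exact h3)
    exact Subtype.ext (mul_inv_eq_one.1 (hsfix _ hxe this))
  have hgy : D.g * y = y * D.g := D.Y_comm_A hy h3
  have hge : D.g * (e : G) * D.g⁻¹ = e := by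
    refine congrArg Subtype.val (hfixed ⟨_, D.conj_mem_E D.g_mem_NE e.2⟩ ?_)
    obtain ⟨k, hk⟩ := hsn _ (D.NE.inv_mem D.g_mem_NE)
    set c := (s ^ k)⁻¹ * (D.g⁻¹ * s * D.g⁻¹⁻¹) with hc
    obtain ⟨q, hq, hqe⟩ := hiter k e
    rw [Function.iterate_fixed he k] at hqe
    have hcm := D.comm_mem_R hk (hey e e.2)
    set m := s ^ k * (c * ((e : G) * y) * c⁻¹ * ((e : G) * y)⁻¹) * (s ^ k)⁻¹ with hm
    have hmR : m ∈ D.R := D.NE_conj_R (D.NE.pow_mem hs k) hcm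
    refine ⟨D.g * m * D.g⁻¹ * (D.g * q * D.g⁻¹),
      D.R.mul_mem (D.NE_conj_R D.g_mem_NE hmR) (D.NE_conj_R D.g_mem_NE hq), ?_⟩
    calc s * (D.g * (e : G) * D.g⁻¹ * y) * s⁻¹
        = s * (D.g * ((e : G) * y) * D.g⁻¹) * s⁻¹ := by
          have h1 : D.g⁻¹ * y = y * D.g⁻¹ := (Commute.inv_left hgy).eq
          calc s * (D.g * (e : G) * D.g⁻¹ * y) * s⁻¹ = s * (D.g * (e : G) * (D.g⁻¹ * y)) * s⁻¹ := by group
            _ = _ := by rw [h1]; group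
      _ = D.g * m * (s ^ k * ((e : G) * y) * (s ^ k)⁻¹) * D.g⁻¹ := by rw [hm, hc]; group
      _ = D.g * (m * (e : G)) * q * y * D.g⁻¹ := by rw [hqe]; group
      _ = D.g * (e : G) * m * q * (y * D.g⁻¹) := by rw [← D.R_comm_E hmR e.2]; group
      _ = D.g * (e : G) * m * q * (D.g⁻¹ * y) := by rw [(Commute.inv_left hgy).eq]
      _ = _ := by group
  have he01 : (e : G) = 1 ∨ (e : G) = D.t := by
    obtain ⟨i, a, ha, hia⟩ := D.mem_E.1 e.2
    rw [← hia, g, iA_apply, ← map_inv, ← map_mul, ← map_mul] at hge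
    have := congrArg Prod.snd (D.f_inj hge)
    simp only [Prod.snd_mul, Prod.snd_inv] at this
    have ha1 := h3_fixes a ha this
    subst ha1
    rw [← hia]
    rcases D.f_eq i 1 with h | h <;> rw [h] <;> simp
  have hey' : (e : G) * y ∈ D.Y := by
    rcases he01 with h | h <;> rw [h]
    · rwa [one_mul]
    · exact D.Y.mul_mem D.t_mem_Y hy
  refine ⟨e, he01, ?_⟩
  let K : Submonoid G :=
    { carrier := {n | n ∈ D.NE ∧ ∃ q ∈ D.R, n * ((e : G) * y) * n⁻¹ = q * ((e : G) * y)}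
      one_mem' := ⟨D.NE.one_mem, 1, D.R.one_mem, by simp⟩
      mul_mem' := by
        rintro a b ⟨ha, q, hq, h⟩ ⟨hb, q', hq', h'⟩
        refine ⟨D.NE.mul_mem ha hb, a * q' * a⁻¹ * q, D.R.mul_mem (D.NE_conj_R ha hq') hq, ?_⟩
        calc a * b * ((e : G) * y) * (a * b)⁻¹ = a * (b * ((e : G) * y) * b⁻¹) * a⁻¹ := by group
          _ = a * q' * a⁻¹ * (a * ((e : G) * y) * a⁻¹) := by rw [h']; group
          _ = _ := by rw [h]; group }
  let H : Subgroup G :=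
    { K with
      inv_mem' := fun {x} hx => by
        have := pow_mem (S := K) hx (orderOf x - 1)
        rwa [show x⁻¹ = x ^ (orderOf x - 1) from inv_eq_of_mul_eq_one_right (by
          rw [← pow_succ', Nat.sub_add_cancel (orderOf_pos x), pow_orderOf_eq_one])] }
  have hsH : s ∈ H := by
    refine ⟨hs, r e, hr e, ?_⟩
    have := hβ e
    rw [he] at this
    rw [this, D.R_comm_E (hr e) e.2, mul_assoc]
  intro n hn
  refine (D.NE_le (H := H) (fun x hx => ⟨D.CE_le_NE hx, _, D.comm_mem_R hx (hey e e.2), by group⟩)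
    ⟨D.g_mem_NE, 1, D.R.one_mem, ?_⟩ ⟨s, hsH, hs, fun h => D.t_ne (hsfix _ D.t_mem_E ?_)⟩ hn).2
  · show D.g * ((e : G) * y) * D.g⁻¹ = 1 * ((e : G) * y)
    rw [one_mul, show D.g * ((e : G) * y) = (e : G) * y * D.g from D.Y_comm_A hey' h3, mul_inv_cancel_right]
  · rw [h, mul_inv_cancel_right]

/-- Every element of `C(E)` is `e y`, with `y ∈ Y` centralized by `N(E)` modulo `R`. -/
theorem fixed_decomp {c : G} (hc : c ∈ D.CE) : ∃ e ∈ D.E, ∃ y ∈ D.Y, c = e * y ∧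
    ∀ n ∈ D.NE, ∃ r ∈ D.R, n * y * n⁻¹ = r * y := by
  obtain ⟨a, ha, y, hy, rfl⟩ := D.CE_decomp hc
  obtain ⟨e, he, h⟩ := D.exists_fixed hy
  have heE : e ∈ D.E := by rcases he with rfl | rfl; exacts [D.E.one_mem, D.t_mem_E]
  have heY : e ∈ D.Y := by rcases he with rfl | rfl; exacts [D.Y.one_mem, D.t_mem_Y]
  refine ⟨D.iA a * e, D.E.mul_mem (D.iA_mem_E ha) heE, e * y, D.Y.mul_mem heY hy, ?_, h⟩
  calc D.iA a * y = D.iA a * (e * e) * y := by rw [D.E_sq heE, mul_one]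
    _ = _ := by group

/-- Every element of `C(E)` is conjugate under `N(E)` into `Y`. -/
theorem conj_into_Y {c : G} (hc : c ∈ D.CE) : ∃ n ∈ D.NE, n * c * n⁻¹ ∈ D.Y := by
  obtain ⟨e, he, y, hy, rfl, h⟩ := D.fixed_decomp hc
  by_cases he1 : e = 1
  · exact ⟨1, D.NE.one_mem, by simpa [he1] using hy⟩
  · obtain ⟨m, hm, hme⟩ := D.transitive he he1
    obtain ⟨r, hr, hy'⟩ := h _ (D.NE.inv_mem hm)
    refine ⟨m⁻¹, D.NE.inv_mem hm, ?_⟩
    have : m⁻¹ * (e * y) * m⁻¹⁻¹ = D.t * (r * y) := by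
      rw [← hy', ← hme]; group
    rw [this]
    exact D.Y.mul_mem D.t_mem_Y (D.Y.mul_mem (D.R_le_Y hr) hy)

end Setup

end Cfsg.Agent.J1WeakClosure
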