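import Cfsg.Agent.Lib.J1WeakClosure.Setting
import Cfsg.Agent.Lib.HallJankoType.AltFive

/-!
# The action of `N(E)` on `E`: transitive of odd order
-/

set_option autoImplicit false

namespace Cfsg.Agent.J1WeakClosure

open Cfsg.Agent.HJType.AltFive (A5 v0 v1 h3)
open Subgroup

theorem V0_pairs_card : Nat.card {p : A5 × A5 //
    (p.1 = v0 ∨ p.1 = v1 ∨ p.1 = v0 * v1) ∧ (p.2 = v0 ∨ p.2 = v1 ∨ p.2 = v0 * v1) ∧ p.1 ≠ p.2} = 6 := by
  rw [Nat.card_eq_fintype_card]; decide +kernel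

namespace Setup

variable {G : Type*} [Group G] (D : Setup G)

/-- The normalizer of `E`. -/
def NE : Subgroup G := normalizer (D.E : Set G)

/-- The centralizer of `E`. -/
def CE : Subgroup G := centralizer (D.E : Set G)

theorem conj_mem_E {n : G} (hn : n ∈ D.NE) {e : G} (he : e ∈ D.E) : n * e * n⁻¹ ∈ D.E :=
  (mem_normalizer_iff.1 hn e).1 he

theorem CE_comm {c : G} (hc : c ∈ D.CE) {e : G} (he : e ∈ D.E) : e * c = c * e :=
  mem_centralizer_iff.1 hc e he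

theorem CE_conj {c : G} (hc : c ∈ D.CE) {e : G} (he : e ∈ D.E) : c * e * c⁻¹ = e := by
  rw [← D.CE_comm hc he, mul_inv_cancel_right]

theorem mem_CE_of_conj {c : G} (h : ∀ e ∈ D.E, c * e * c⁻¹ = e) : c ∈ D.CE :=
  mem_centralizer_iff.2 fun e he => by
    conv_lhs => rw [← h e he]
    group

theorem CE_le_C : D.CE ≤ D.C := fun c hc => D.mem_C.2 (D.CE_comm hc D.t_mem_E).symm

theorem E_le_CE : D.E ≤ D.CE := fun x hx => mem_centralizer_iff.2 fun e he => D.E_comm he hx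

theorem CE_le_NE : D.CE ≤ D.NE := fun c hc => by
  rw [NE, mem_normalizer_iff]
  refine fun e => ⟨fun he => by rwa [D.CE_conj hc he], fun he => ?_⟩
  have h := D.CE_conj (D.CE.inv_mem hc) he
  have h2 : c⁻¹ * (c * e * c⁻¹) * c⁻¹⁻¹ = e := by group
  rwa [← h.symm.trans h2]

variable [Finite G]

theorem g_mem_NE : D.g ∈ D.NE := D.weakly_closed D.E_isPGroup le_rfl fun e he => by
  obtain ⟨i, a, ha, rfl⟩ := D.mem_E.1 he
  have h : D.g * D.f (i, a) * D.g⁻¹ = D.f (i, h3 * a * h3⁻¹) := by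
    rw [g, iA_apply, ← map_inv, ← map_mul, ← map_mul]
    simp
  rw [h]; exact D.f_mem_E (h3_normalizes a ha)

/-- The orbit of `t` under `N(E)`. -/
def Orb : Set G := {v | ∃ n ∈ D.NE, n * D.t * n⁻¹ = v}

theorem orb_odd : Odd (Nat.card D.Orb) := by
  haveI : Fact (Nat.Prime 2) := ⟨Nat.prime_two⟩
  have h := HallJankoType.card_orbit_mul D.NE D.t
  have hS : (D.S : Subgroup G) ≤ D.NE ⊓ centralizer {D.t} := le_inf D.S_le_normalizer D.S_le_C
  by_contra hc
  obtain ⟨k, hk⟩ := (Nat.not_odd_iff_even.1 hc).two_dvd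
  obtain ⟨l, hl⟩ := card_dvd_of_le hS
  obtain ⟨q, hq⟩ := D.NE.card_subgroup_dvd_card
  refine D.S.not_dvd_index ⟨k * l * q, Nat.eq_of_mul_eq_mul_left (Nat.card_pos (α := D.S)) ?_⟩
  rw [card_mul_index, hq, ← h, show Nat.card {v : G // ∃ n ∈ D.NE, n * D.t * n⁻¹ = v} = 2 * k from hk, hl]
  ring

theorem orb_E {v : G} (hv : v ∈ D.Orb) : v ∈ D.E ∧ v ∈ D.T ∧ v ≠ 1 := by
  obtain ⟨n, hn, rfl⟩ := hv
  exact ⟨D.conj_mem_E hn D.t_mem_E, ⟨n, rfl⟩, fun h => D.t_ne (conj_eq_one_iff.1 h)⟩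

theorem mem_orb_of_T {v : G} (hv : v ∈ D.T) (hvE : v ∈ D.E) : v ∈ D.Orb := by
  obtain ⟨g, hg⟩ := hv
  obtain ⟨n, -, hn, e⟩ := D.fusion (H := ⊤) le_top D.t_mem_E hvE (mem_top g) hg
  exact ⟨n, hn, e⟩

theorem g_orbit {i : Multiplicative (ZMod 2)} {a b : A5} (ha : a ∈ V0) (ha1 : a ≠ 1) (hb : b ∈ V0)
    (hb1 : b ≠ 1) (h : D.f (i, a) ∈ D.Orb) : D.f (i, b) ∈ D.Orb := by
  obtain ⟨k, hk⟩ := h3_orbit a b ha ha1 hb hb1
  obtain ⟨n, hn, e⟩ := h
  refine ⟨D.g ^ (k : ℕ) * n, D.NE.mul_mem (D.NE.pow_mem D.g_mem_NE _) hn, ?_⟩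
  calc D.g ^ (k : ℕ) * n * D.t * (D.g ^ (k : ℕ) * n)⁻¹
      = D.g ^ (k : ℕ) * (n * D.t * n⁻¹) * (D.g ^ (k : ℕ))⁻¹ := by group
    _ = D.f (i, b) := by
      rw [e, g, iA_apply, ← map_pow, ← map_inv, ← map_mul, ← map_mul]
      simp [hk]

theorem transitive {u : G} (hu : u ∈ D.E) (hu1 : u ≠ 1) : u ∈ D.Orb := by
  classical
  by_contra hu'
  obtain ⟨i, b, hb, rfl⟩ := D.mem_E.1 hu
  have htO : D.t ∈ D.Orb := ⟨1, D.NE.one_mem, by simp⟩
  obtain ⟨j, hj⟩ := D.exists_class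
  have hb1 : b ≠ 1 := by
    rintro rfl
    rcases D.f_eq i 1 with h | h
    · exact hu1 (by rw [h, map_one])
    · exact hu' (by rw [h, map_one, mul_one]; exact htO)
  have hjO : ∀ c ∈ V0, c ≠ 1 → D.f (j, c) ∈ D.Orb := fun c hc hc1 =>
    D.mem_orb_of_T (hj c hc hc1) (D.f_mem_E hc)
  let φ : V0 → G := fun c => if (c : A5) = 1 then D.t else D.f (j, c)
  have hne : ∀ c : A5, c ≠ 1 → D.f (j, c) ≠ D.t := by
    intro c hc h
    rw [← D.f_t] at h
    exact hc (congrArg Prod.snd (D.f_inj h))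
  have hφ : Function.Injective φ := by
    intro c c' h
    simp only [φ] at h
    split_ifs at h with h1 h2 h3
    · exact Subtype.ext (h1.trans h2.symm)
    · exact absurd h.symm (hne _ h2)
    · exact absurd h (hne _ h1)
    · exact Subtype.ext (congrArg Prod.snd (D.f_inj h))
  have hrange : D.Orb = Set.range φ := by
    ext v
    constructor
    · intro hv
      obtain ⟨hvE, -, hv1⟩ := D.orb_E hv
      obtain ⟨k, c, hc, rfl⟩ := D.mem_E.1 hvE
      by_cases hc1 : c = 1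
      · refine ⟨⟨1, V0.one_mem⟩, ?_⟩
        simp only [φ, if_true]
        subst hc1
        rcases D.f_eq k 1 with h | h
        · exact absurd (by rw [h, map_one]) hv1
        · rw [h, map_one, mul_one]
      · refine ⟨⟨c, hc⟩, ?_⟩
        simp only [φ, if_neg hc1]
        by_cases hki : k = i
        · exact absurd (D.g_orbit hc hc1 hb hb1 (hki ▸ hv)) hu'
        · have hji : j ≠ i := fun h => hu' (h ▸ hjO b hb hb1)
          have : k = j :=
            (show ∀ k i j : Multiplicative (ZMod 2), j ≠ i → k ≠ i → k = j by decide) k i j hji hki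
          rw [this]
    · rintro ⟨⟨c, hc⟩, rfl⟩
      simp only [φ]
      split_ifs with h
      · exact htO
      · exact hjO c hc h
  have := D.orb_odd
  rw [Nat.card_congr (Equiv.setCongr hrange), Nat.card_range_of_injective hφ, card_V0] at this
  exact absurd this (by decide)

theorem mem_T_of_E {u : G} (hu : u ∈ D.E) (hu1 : u ≠ 1) : u ∈ D.T := (D.orb_E (D.transitive hu hu1)).2.1

theorem orb_card : Nat.card D.Orb = 7 := by
  classical
  haveI := Fintype.ofFinite D.E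
  have e : D.Orb ≃ {x : D.E // x ≠ 1} :=
    { toFun := fun v => ⟨⟨v, (D.orb_E v.2).1⟩, fun h => (D.orb_E v.2).2.2 (congrArg Subtype.val h)⟩
      invFun := fun x => ⟨x.1, D.transitive x.1.2 fun h => x.2 (Subtype.ext h)⟩
      left_inv := fun v => rfl
      right_inv := fun x => rfl }
  rw [Nat.card_congr e, Nat.card_eq_fintype_card, Fintype.card_subtype_compl, Fintype.card_subtype_eq,
    ← Nat.card_eq_fintype_card, D.card_E]

/-- The action of `N(E)` on `E`. -/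
def act : D.NE →* MulAut D.E := D.E.normalizerMonoidHom

omit [Finite G] in
theorem act_coe (n : D.NE) (e : D.E) : (D.act n e : G) = n * e * (n : G)⁻¹ := rfl

omit [Finite G] in
theorem act_eq_one {n : D.NE} : D.act n = 1 ↔ (n : G) ∈ D.CE := by
  refine ⟨fun h => D.mem_CE_of_conj fun e he => ?_, fun h => ?_⟩
  · have := congrArg (fun σ : MulAut D.E => (σ ⟨e, he⟩ : G)) h
    simpa [act_coe] using this
  · ext e
    simpa [act_coe] using D.CE_conj h e.2

omit [Finite G] in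
theorem conj_iA {n : G} (hn : n ∈ D.NE) (hc : n ∈ D.C) {a : A5} (ha : a ∈ V0) :
    ∃ b ∈ V0, n * D.iA a * n⁻¹ = D.iA b := by
  obtain ⟨b, hb⟩ := D.conj_A hc (D.mem_A a)
  obtain ⟨i, b', hb', e⟩ := D.mem_E.1 (D.conj_mem_E hn (D.iA_mem_E ha))
  refine ⟨b', hb', ?_⟩
  rw [← e] at hb ⊢
  have h := congrArg Prod.fst (D.f_inj hb)
  simp only [MonoidHom.inr_apply] at h
  rw [← h]; rfl

omit [Finite G] in
theorem mulAut_ext {α β : MulAut D.E} (ht : α ⟨D.t, D.t_mem_E⟩ = β ⟨D.t, D.t_mem_E⟩)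
    (h0 : α ⟨D.iA v0, D.iA_mem_E v0_mem⟩ = β ⟨D.iA v0, D.iA_mem_E v0_mem⟩)
    (h1 : α ⟨D.iA v1, D.iA_mem_E v1_mem⟩ = β ⟨D.iA v1, D.iA_mem_E v1_mem⟩) : α = β := by
  let K : Subgroup D.E := α.toMonoidHom.eqLocus β.toMonoidHom
  suffices h : ∀ e, e ∈ K from MulEquiv.ext h
  rintro ⟨e, he⟩
  obtain ⟨i, a, ha, rfl⟩ := D.mem_E.1 he
  have hA : (⟨D.iA a, D.iA_mem_E ha⟩ : D.E) ∈ K := by
    rcases ha with rfl | rfl | rfl | rfl
    · convert K.one_mem using 1; exact Subtype.ext (map_one _)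
    · exact h0
    · exact h1
    · convert K.mul_mem (show (⟨D.iA v0, D.iA_mem_E v0_mem⟩ : D.E) ∈ K from h0)
        (show (⟨D.iA v1, D.iA_mem_E v1_mem⟩ : D.E) ∈ K from h1) using 1
      exact Subtype.ext (map_mul _ _ _)
  rcases D.f_eq i a with h | h
  · simpa only [h] using hA
  · convert K.mul_mem (show (⟨D.t, D.t_mem_E⟩ : D.E) ∈ K from ht) hA using 1
    exact Subtype.ext h

/-- The group induced on `E`. -/
abbrev Gam : Subgroup (MulAut D.E) := D.act.range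

/-- The point stabilizer of `t` in the induced group. -/
def Stab : Subgroup D.Gam := (D.C.subgroupOf D.NE).map D.act.rangeRestrict

omit [Finite G] in
theorem mem_Stab {δ : D.Gam} : δ ∈ D.Stab ↔ ((δ : MulAut D.E) ⟨D.t, D.t_mem_E⟩ : G) = D.t := by
  constructor
  · rintro ⟨n, hn, rfl⟩
    show (n : G) * D.t * (n : G)⁻¹ = D.t
    rw [show (n : G) * D.t = D.t * n from D.mem_C.1 hn, mul_inv_cancel_right]
  · intro h
    obtain ⟨n, hn⟩ := δ.2
    refine ⟨n, D.mem_C.2 ?_, Subtype.ext hn⟩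
    rw [← hn, act_coe] at h
    calc (n : G) * D.t = (n : G) * D.t * (n : G)⁻¹ * n := by group
      _ = D.t * n := by rw [h]

theorem card_Gam : Nat.card D.Gam = Nat.card D.Stab * 7 := by
  rw [← card_mul_index D.Stab]
  congr 1
  rw [Stab, Subgroup.index_map_eq _ D.act.rangeRestrict_surjective]
  · have h := HallJankoType.card_orbit_mul D.NE D.t
    rw [show Nat.card {v : G // ∃ n ∈ D.NE, n * D.t * n⁻¹ = v} = 7 from D.orb_card] at h
    refine Nat.eq_of_mul_eq_mul_left (Nat.card_pos (α := D.C.subgroupOf D.NE)) ?_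
    rw [card_mul_index]
    refine (h.symm.trans ?_)
    rw [mul_comm, ← Nat.card_congr (Subgroup.subgroupOfEquivOfLe
      (inf_le_left : D.NE ⊓ centralizer {D.t} ≤ D.NE)).toEquiv, inf_subgroupOf_left]
    rfl
  · rw [MonoidHom.ker_rangeRestrict]
    intro n hn
    exact D.CE_le_C (D.act_eq_one.1 hn)

theorem card_Stab_le : Nat.card D.Stab ≤ 6 := by
  classical
  have hex : ∀ δ : D.Stab, ∃ p : {p : A5 × A5 //
      (p.1 = v0 ∨ p.1 = v1 ∨ p.1 = v0 * v1) ∧ (p.2 = v0 ∨ p.2 = v1 ∨ p.2 = v0 * v1) ∧ p.1 ≠ p.2},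
      ((δ.1.1 : MulAut D.E) ⟨D.iA v0, D.iA_mem_E v0_mem⟩ : G) = D.iA p.1.1 ∧
      ((δ.1.1 : MulAut D.E) ⟨D.iA v1, D.iA_mem_E v1_mem⟩ : G) = D.iA p.1.2 := by
    rintro ⟨δ, n, hn, rfl⟩
    obtain ⟨a, ha, ea⟩ := D.conj_iA n.2 hn v0_mem
    obtain ⟨b, hb, eb⟩ := D.conj_iA n.2 hn v1_mem
    have ha1 : a ≠ 1 := by
      rintro rfl
      rw [map_one, conj_eq_one_iff, ← map_one D.iA] at ea
      exact absurd (D.iA_inj ea) (by decide +kernel)
    have hb1 : b ≠ 1 := by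
      rintro rfl
      rw [map_one, conj_eq_one_iff, ← map_one D.iA] at eb
      exact absurd (D.iA_inj eb) (by decide +kernel)
    refine ⟨⟨(a, b), ha.resolve_left ha1, hb.resolve_left hb1, ?_⟩, ea, eb⟩
    rintro (rfl : a = b)
    exact absurd (D.iA_inj (mul_left_cancel (mul_right_cancel (ea.trans eb.symm)))) (by decide +kernel)
  choose p hp0 hp1 using hex
  rw [← V0_pairs_card]
  refine Nat.card_le_card_of_injective p fun δ δ' h => ?_
  apply Subtype.ext; apply Subtype.ext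
  refine D.mulAut_ext (Subtype.ext ?_) (Subtype.ext ?_) (Subtype.ext ?_)
  · rw [D.mem_Stab.1 δ.2, D.mem_Stab.1 δ'.2]
  · rw [hp0, hp0, h]
  · rw [hp1, hp1, h]

/-- An element of order seven of the induced group, generating a normal subgroup and regular on `E#`. -/
theorem exists_sigma : ∃ σ : D.Gam, orderOf σ = 7 ∧ (∀ γ : D.Gam, ∃ k : ℕ, γ * σ * γ⁻¹ = σ ^ k) ∧
    (∀ i : ℕ, σ ^ i ∈ D.Stab → 7 ∣ i) := by
  haveI : Fact (Nat.Prime 7) := ⟨by norm_num⟩
  haveI : Finite D.Gam := Finite.of_surjective _ D.act.rangeRestrict_surjective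
  obtain ⟨σ, hσ⟩ := exists_prime_orderOf_dvd_card' (G := D.Gam) 7 ⟨_, D.card_Gam.trans (mul_comm _ _)⟩
  refine ⟨σ, hσ, fun γ => ?_, fun i hi => ?_⟩
  · by_contra hne
    push Not at hne
    set P := zpowers σ
    set Q := zpowers (γ * σ * γ⁻¹)
    have hP : Nat.card P = 7 := by rw [Nat.card_zpowers, hσ]
    have hQ : Nat.card Q = 7 := by
      rw [Nat.card_zpowers, ← hσ, show γ * σ * γ⁻¹ = MulAut.conj γ σ from rfl, MulEquiv.orderOf_eq]
    have hdis : Disjoint P Q := by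
      rw [disjoint_iff]
      by_contra h
      have hc : Nat.card (P ⊓ Q : Subgroup D.Gam) = 7 := by
        have hd := card_dvd_of_le (inf_le_left : P ⊓ Q ≤ P)
        rw [hP, Nat.dvd_prime (by norm_num)] at hd
        exact hd.resolve_left fun h1 => h (eq_bot_of_card_eq _ h1)
      have h1 : P ⊓ Q = P := eq_of_le_of_card_ge inf_le_left (by rw [hc, hP])
      have h2 : P ⊓ Q = Q := eq_of_le_of_card_ge inf_le_right (by rw [hc, hQ])
      have hmem : γ * σ * γ⁻¹ ∈ P := by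
        rw [← h1, h2]; exact mem_zpowers _
      obtain ⟨k, hk⟩ := (mem_powers_iff_mem_zpowers.2 hmem)
      exact hne k hk.symm
    have := Nat.card_le_card_of_injective _ (Subgroup.mul_injective_of_disjoint hdis)
    rw [Nat.card_prod, hP, hQ, D.card_Gam] at this
    have := D.card_Stab_le
    omega
  · rw [← hσ, orderOf_dvd_iff_pow_eq_one]
    by_contra hne
    have h7 : orderOf (σ ^ i) = 7 :=
      orderOf_eq_prime (by rw [← pow_mul, mul_comm, pow_mul, ← hσ, pow_orderOf_eq_one, one_pow]) hne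
    have := Nat.le_of_dvd Nat.card_pos (h7 ▸ Subgroup.orderOf_dvd_natCard _ hi)
    have := D.card_Stab_le
    omega

/-- Involutory elements of the induced group are trivial. -/
theorem Gam_sq {δ : D.Gam} (h : δ * δ = 1) : δ = 1 := by
  classical
  haveI : Fact (Nat.Prime 2) := ⟨Nat.prime_two⟩
  haveI := Fintype.ofFinite D.Orb
  obtain ⟨σ, hσ, hnorm, hreg⟩ := D.exists_sigma
  have hO : ∀ (γ : D.Gam) (v : D.Orb), ((γ : MulAut D.E) ⟨v, (D.orb_E v.2).1⟩ : G) ∈ D.Orb := by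
    intro γ v
    refine D.transitive (SetLike.coe_mem _) fun h1 => (D.orb_E v.2).2.2 ?_
    have h2 : (γ : MulAut D.E) ⟨v, (D.orb_E v.2).1⟩ = 1 := Subtype.ext h1
    rw [map_eq_one_iff _ (γ : MulAut D.E).injective] at h2
    exact congrArg Subtype.val h2
  let T0 : D.Orb := ⟨D.t, 1, D.NE.one_mem, by simp⟩
  let op : D.Gam → D.Orb → D.Orb := fun γ v => ⟨_, hO γ v⟩
  have op_mul : ∀ a b v, op (a * b) v = op a (op b v) := fun a b v => Subtype.ext rfl
  have op_one : ∀ v, op 1 v = v := fun v => Subtype.ext rfl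
  have op_stab : ∀ a, op a T0 = T0 → a ∈ D.Stab := fun a ha => D.mem_Stab.2 (congrArg Subtype.val ha)
  have hbij : Function.Bijective (fun i : Fin 7 => op (σ ^ (i : ℕ)) T0) := by
    refine (Fintype.bijective_iff_injective_and_card _).2 ⟨?_, ?_⟩
    · intro i j hij
      wlog hle : (j : ℕ) ≤ i generalizing i j
      · exact (this hij.symm (le_of_not_ge hle)).symm
      have : op (σ ^ ((i : ℕ) - j)) T0 = T0 := by
        have hinv : ∀ a b : D.Orb, op (σ ^ (j : ℕ)) a = op (σ ^ (j : ℕ)) b → a = b := fun a b hab => by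
          have := congrArg (op (σ ^ (j : ℕ))⁻¹) hab
          rwa [← op_mul, ← op_mul, inv_mul_cancel, op_one, op_one] at this
        refine hinv _ _ ?_
        rw [← op_mul, ← pow_add, Nat.add_sub_cancel' hle]
        exact hij
      have := hreg _ (op_stab _ this)
      exact Fin.ext (by omega)
    · rw [Fintype.card_fin, ← Nat.card_eq_fintype_card, D.orb_card]
  suffices key : ∀ a : D.Gam, a * a = 1 → op a T0 = T0 → a = 1 by
    let π : Equiv.Perm D.Orb :=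
      ⟨op δ, op δ, fun v => by rw [← op_mul, h, op_one], fun v => by rw [← op_mul, h, op_one]⟩
    obtain ⟨u, hu⟩ := Equiv.Perm.exists_fixed_point_of_prime (p := 2) (n := 1)
      (by rw [← Nat.card_eq_fintype_card, D.orb_card]; decide) (σ := π)
      (Equiv.ext fun v => by rw [pow_one, pow_two]; exact (π.left_inv v : op δ (op δ v) = v))
    obtain ⟨i, hi⟩ := hbij.surjective u
    simp only at hi
    have e := key ((σ ^ (i : ℕ))⁻¹ * δ * σ ^ (i : ℕ))
      (by rw [show ∀ x y : D.Gam, x⁻¹ * y * x * (x⁻¹ * y * x) = x⁻¹ * (y * y) * x from fun x y => by group,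
        h, mul_one, inv_mul_cancel])
      (by rw [op_mul, op_mul, hi, show op δ u = u from hu, ← hi, ← op_mul, inv_mul_cancel, op_one])
    have e2 : δ = σ ^ (i : ℕ) * ((σ ^ (i : ℕ))⁻¹ * δ * σ ^ (i : ℕ)) * (σ ^ (i : ℕ))⁻¹ := by group
    rw [e2, e, mul_one, mul_inv_cancel]
  intro a ha hat
  obtain ⟨n, hnC, hn⟩ := op_stab a hat
  have hval : ∀ x : G, ∀ hx : x ∈ D.E, ((a : MulAut D.E) ⟨x, hx⟩ : G) = n * x * (n : G)⁻¹ := by
    intro x hx; rw [← hn]; rfl
  -- an element of `V#` fixed by `a`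
  have hfix : ∃ w ∈ V0, w ≠ 1 ∧ (n : G) * D.iA w * (n : G)⁻¹ = D.iA w := by
    obtain ⟨w, hw, ew⟩ := D.conj_iA n.2 hnC v0_mem
    have hw2 : (n : G) * D.iA w * (n : G)⁻¹ = D.iA v0 := by
      have h2 : ((a * a : D.Gam) : MulAut D.E) ⟨D.iA v0, D.iA_mem_E v0_mem⟩ = ⟨D.iA v0, D.iA_mem_E v0_mem⟩ := by
        rw [ha]; rfl
      have e1 : (a : MulAut D.E) ⟨D.iA v0, D.iA_mem_E v0_mem⟩ = ⟨D.iA w, D.iA_mem_E hw⟩ :=
        Subtype.ext ((hval _ _).trans ew)
      rw [Subgroup.coe_mul, MulAut.mul_apply, e1] at h2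
      have h3 := congrArg Subtype.val h2
      rwa [hval] at h3
    by_cases hw0 : v0 * w = 1
    · have hwv : w = v0 := by
        have hv : v0 * v0 = (1 : A5) := V0_sq v0 v0_mem
        exact mul_left_cancel (hw0.trans hv.symm)
      subst hwv
      exact ⟨v0, v0_mem, by decide +kernel, ew⟩
    · refine ⟨v0 * w, V0.mul_mem v0_mem hw, hw0, ?_⟩
      rw [map_mul, ← conj_mul, ew, hw2]
      exact (map_mul D.iA w v0).symm.trans ((congrArg D.iA (V0_comm _ _ hw v0_mem)).trans (map_mul _ _ _))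
  obtain ⟨w, hw, hw1, ew⟩ := hfix
  have hwne : D.iA w ≠ D.t := fun h1 => by
    rw [iA_apply, ← D.f_t] at h1
    exact hw1 (congrArg Prod.snd (D.f_inj h1))
  obtain ⟨k, hk⟩ := hnorm a
  let W : D.Orb := ⟨D.iA w, D.transitive (D.iA_mem_E hw)
    fun h1 => hw1 (D.iA_inj (h1.trans (map_one _).symm))⟩
  obtain ⟨j, hj⟩ := hbij.surjective W
  simp only at hj
  have hj0 : ¬ 7 ∣ (j : ℕ) := by
    intro hd
    have : (j : ℕ) = 0 := by omega
    rw [this, pow_zero, op_one] at hj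
    exact hwne (congrArg Subtype.val hj).symm
  have haW : op a W = W := Subtype.ext ((hval _ _).trans ew)
  have hkj : op (σ ^ (k * (j : ℕ))) T0 = op (σ ^ (j : ℕ)) T0 := by
    rw [pow_mul, ← hk, conj_pow, op_mul, op_mul, show op a⁻¹ T0 = T0 by
      rw [inv_eq_of_mul_eq_one_right ha]; exact hat, hj, haW]
  have hcong : k * (j : ℕ) % 7 = (j : ℕ) % 7 := by
    have hmod : ∀ m : ℕ, σ ^ m = σ ^ (m % 7) := fun m => by rw [← hσ, pow_mod_orderOf]
    rw [hmod (k * _), hmod (j : ℕ)] at hkj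
    exact congrArg Fin.val (hbij.injective (a₁ := ⟨_, Nat.mod_lt _ (by norm_num)⟩)
      (a₂ := ⟨_, Nat.mod_lt _ (by norm_num)⟩) hkj)
  have hk1 : k % 7 = 1 := by
    have hall : ∀ k j : Fin 7, j ≠ 0 → (k : ℕ) * j % 7 = (j : ℕ) % 7 → (k : ℕ) = 1 := by decide
    refine hall ⟨k % 7, Nat.mod_lt _ (by norm_num)⟩ j (fun h0 => hj0 (by simp [h0])) ?_
    show k % 7 * (j : ℕ) % 7 = _
    rw [Nat.mul_mod, Nat.mod_mod, ← Nat.mul_mod]; exact hcong
  have hcomm : a * σ * a⁻¹ = σ := by rw [hk, ← pow_mod_orderOf, hσ, hk1, pow_one]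
  have hall : ∀ v, op a v = v := by
    intro v
    obtain ⟨i, rfl⟩ := hbij.surjective v
    simp only
    rw [← op_mul, show a * σ ^ (i : ℕ) = σ ^ (i : ℕ) * a by
      rw [← mul_inv_eq_iff_eq_mul, ← conj_pow, hcomm], op_mul, hat]
  apply Subtype.ext
  refine MulEquiv.ext fun e => ?_
  by_cases he : (e : G) = 1
  · rw [show e = 1 from Subtype.ext he, map_one, map_one]
  · have h2 := congrArg Subtype.val (hall ⟨e, D.transitive e.2 he⟩)
    exact Subtype.ext h2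

theorem mem_CE_of_sq {n : G} (hn : n ∈ D.NE) (h : n * n ∈ D.CE) : n ∈ D.CE := by
  have h2 : D.act.rangeRestrict ⟨n, hn⟩ * D.act.rangeRestrict ⟨n, hn⟩ = 1 :=
    Subtype.ext ((map_mul D.act _ _).symm.trans (D.act_eq_one.2 h))
  exact D.act_eq_one.1 (congrArg Subtype.val (D.Gam_sq h2))

theorem mem_CE_of_pow_two : ∀ (k : ℕ) {n : G}, n ∈ D.NE → n ^ (2 ^ k) ∈ D.CE → n ∈ D.CE
  | 0, _, _, h => by simpa using h
  | k + 1, n, hn, h => by
    refine D.mem_CE_of_sq hn ?_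
    rw [pow_succ', pow_mul, pow_two] at h
    exact mem_CE_of_pow_two k (D.NE.mul_mem hn hn) h

theorem S_le_CE : (D.S : Subgroup G) ≤ D.CE := fun s hs => by
  obtain ⟨k, hk⟩ := D.S.isPGroup' ⟨s, hs⟩
  have : s ^ (2 ^ k) = 1 := congrArg Subtype.val hk
  exact D.mem_CE_of_pow_two k (D.S_le_normalizer hs) (this ▸ D.CE.one_mem)

/-- The stabilizer of `t` in `N(E)` is `⟨g⟩ C(E)`. -/
theorem stab_decomp {n : G} (hn : n ∈ D.NE) (hc : n ∈ D.C) : ∃ i : ℕ, (D.g ^ i)⁻¹ * n ∈ D.CE := by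
  obtain ⟨a, ha, ea⟩ := D.conj_iA hn hc v0_mem
  have ha1 : a ≠ 1 := by
    rintro rfl
    rw [map_one, conj_eq_one_iff, ← map_one D.iA] at ea
    exact absurd (D.iA_inj ea) (by decide +kernel)
  obtain ⟨i, hi⟩ := h3_orbit v0 a v0_mem (by decide +kernel) ha ha1
  refine ⟨i, D.mem_CE_of_sq ?_ ?_⟩
  · exact D.NE.mul_mem (D.NE.inv_mem (D.NE.pow_mem D.g_mem_NE _)) hn
  set m := (D.g ^ (i : ℕ))⁻¹ * n with hm
  have hmN : m ∈ D.NE := D.NE.mul_mem (D.NE.inv_mem (D.NE.pow_mem D.g_mem_NE _)) hn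
  have hmC : m ∈ D.C := D.C.mul_mem (D.C.inv_mem (D.C.pow_mem (D.iA_mem_C h3) _)) hc
  have hm0 : m * D.iA v0 * m⁻¹ = D.iA v0 := by
    calc m * D.iA v0 * m⁻¹ = (D.g ^ (i : ℕ))⁻¹ * (n * D.iA v0 * n⁻¹) * D.g ^ (i : ℕ) := by rw [hm]; group
      _ = D.iA v0 := by
        rw [ea, ← hi, g, ← map_pow]
        simp only [map_mul, map_inv]
        group
  obtain ⟨b, hb, eb⟩ := D.conj_iA hmN hmC v1_mem
  have hbne : b ≠ 1 ∧ b ≠ v0 := by
    constructor <;> rintro rfl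
    · rw [map_one, conj_eq_one_iff, ← map_one D.iA] at eb
      exact absurd (D.iA_inj eb) (by decide +kernel)
    · exact absurd (D.iA_inj (mul_left_cancel (mul_right_cancel (eb.trans hm0.symm)))) (by decide +kernel)
  have hmt : m * D.t * m⁻¹ = D.t := by rw [D.mem_C.1 hmC, mul_inv_cancel_right]
  have hmm : ∀ x, m * m * x * (m * m)⁻¹ = m * (m * x * m⁻¹) * m⁻¹ := fun x => by group
  have h1 : m * (m * D.iA v1 * m⁻¹) * m⁻¹ = D.iA v1 := by
    rcases (hb.resolve_left hbne.1).resolve_left hbne.2 with rfl | rfl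
    · rw [eb, eb]
    · rw [eb, map_mul, ← conj_mul, hm0, eb, ← map_mul,
        show v0 * (v0 * v1) = v1 by rw [← mul_assoc, V0_sq v0 v0_mem, one_mul]]
  have hmm2 : m * m ∈ D.NE := D.NE.mul_mem hmN hmN
  refine (D.act_eq_one (n := ⟨m * m, hmm2⟩)).1 (D.mulAut_ext ?_ ?_ ?_)
  · exact Subtype.ext ((hmm D.t).trans (by rw [hmt, hmt]; rfl))
  · exact Subtype.ext ((hmm _).trans (by rw [hm0, hm0]; rfl))
  · exact Subtype.ext ((hmm _).trans h1)

end Setup

end Cfsg.Agent.J1WeakClosure
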