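import Cfsg.Prelude.Def_SporadicB
import Cfsg.Agent.Lib.J1WeakClosure.AltFive

/-!
# A 2-central involution with weak closure `Z₂ × A₅`: the subgroup `E`
-/

set_option autoImplicit false

namespace Cfsg.Agent.J1WeakClosure

open Cfsg.Agent.HJType.AltFive (A5 v0 v1 h3)
open Subgroup

/-- A 2-central involution whose weak closure in its centralizer is `Z₂ × A₅`. -/
structure Setup (G : Type*) [Group G] where
  t : G
  f : Multiplicative (ZMod 2) × A5 →* G
  f_inj : Function.Injective f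
  f_t : f (Multiplicative.ofAdd 1, 1) = t
  two_central : Cfsg.IsTwoCentralInvolution t
  conj_mem : ∀ g : G, g * t * g⁻¹ * t = t * (g * t * g⁻¹) → g * t * g⁻¹ ∈ f.range
  moved : ∃ g : G, g * t * g⁻¹ * t = t * (g * t * g⁻¹) ∧ g * t * g⁻¹ ≠ t

namespace Setup

variable {G : Type*} [Group G] (D : Setup G)

/-- The factor `A₅`. -/
def iA : A5 →* G := D.f.comp (MonoidHom.inr _ _)

/-- `A`, the image of `A₅`. -/
def A : Subgroup G := D.iA.range

/-- The conjugates of `t`. -/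
def T : Set G := {x | ∃ g : G, g * D.t * g⁻¹ = x}

/-- The centralizer of `t`. -/
def C : Subgroup G := centralizer ({D.t} : Set G)

/-- The elementary subgroup of order eight. -/
def E : Subgroup G := ((⊤ : Subgroup (Multiplicative (ZMod 2))).prod V0).map D.f

/-- The centralizer of `A` in `C(t)`. -/
def Y : Subgroup G := D.C ⊓ centralizer (D.A : Set G)

/-- The element of order three of `A` normalizing `E`. -/
def g : G := D.iA h3

theorem zmod_cases : ∀ i : Multiplicative (ZMod 2), i = 1 ∨ i = Multiplicative.ofAdd 1 := by decide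

theorem iA_apply (a : A5) : D.iA a = D.f (1, a) := rfl

theorem iA_inj : Function.Injective D.iA := fun a b h => by
  have := D.f_inj h
  simpa using this

theorem f_eq (i : Multiplicative (ZMod 2)) (a : A5) :
    D.f (i, a) = D.iA a ∨ D.f (i, a) = D.t * D.iA a := by
  rcases zmod_cases i with rfl | rfl
  · exact Or.inl rfl
  · refine Or.inr ?_
    rw [iA_apply, ← D.f_t, ← map_mul]; simp

theorem t_comm_f (x : Multiplicative (ZMod 2) × A5) : D.f x * D.t = D.t * D.f x := by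
  rw [← D.f_t, ← map_mul, ← map_mul]
  congr 1
  ext <;> simp [mul_comm]

theorem orderOf_t : orderOf D.t = 2 := D.two_central.1

theorem t_sq : D.t * D.t = 1 := by rw [← pow_two, ← D.orderOf_t, pow_orderOf_eq_one]

theorem t_ne : D.t ≠ 1 := fun h => by
  have := D.orderOf_t; rw [h, orderOf_one] at this; norm_num at this

theorem mem_C {x : G} : x ∈ D.C ↔ x * D.t = D.t * x := mem_centralizer_singleton_iff

theorem t_mem_C : D.t ∈ D.C := D.mem_C.2 rfl

theorem iA_mem_C (a : A5) : D.iA a ∈ D.C := D.mem_C.2 (D.t_comm_f _)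

theorem A_le_C : D.A ≤ D.C := by rintro _ ⟨a, rfl⟩; exact D.iA_mem_C a

theorem mem_A (a : A5) : D.iA a ∈ D.A := ⟨a, rfl⟩

theorem range_le_C : D.f.range ≤ D.C := by rintro _ ⟨a, rfl⟩; exact D.mem_C.2 (D.t_comm_f _)

theorem t_mem_T : D.t ∈ D.T := ⟨1, by simp⟩

theorem conj_mem_T {x : G} (hx : x ∈ D.T) (h : G) : h * x * h⁻¹ ∈ D.T := by
  obtain ⟨g, rfl⟩ := hx
  exact ⟨h * g, by group⟩

theorem T_sq {x : G} (hx : x ∈ D.T) : x * x = 1 := by
  obtain ⟨g, rfl⟩ := hx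
  rw [conj_mul, D.t_sq, mul_one, mul_inv_cancel]

theorem T_comm_mem {x : G} (hx : x ∈ D.T) (hc : x ∈ D.C) : x ∈ D.f.range := by
  obtain ⟨g, rfl⟩ := hx
  exact D.conj_mem g (D.mem_C.1 hc)

theorem t_mem_E : D.t ∈ D.E :=
  ⟨(Multiplicative.ofAdd 1, 1), ⟨mem_top _, V0.one_mem⟩, D.f_t⟩

theorem iA_mem_E {a : A5} (ha : a ∈ V0) : D.iA a ∈ D.E := ⟨(1, a), ⟨mem_top _, ha⟩, rfl⟩

theorem f_mem_E {i : Multiplicative (ZMod 2)} {a : A5} (ha : a ∈ V0) : D.f (i, a) ∈ D.E :=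
  ⟨(i, a), ⟨mem_top _, ha⟩, rfl⟩

theorem mem_E {x : G} : x ∈ D.E ↔ ∃ i, ∃ a ∈ V0, D.f (i, a) = x := by
  constructor
  · rintro ⟨⟨i, a⟩, ⟨-, ha⟩, rfl⟩; exact ⟨i, a, ha, rfl⟩
  · rintro ⟨i, a, ha, rfl⟩; exact D.f_mem_E ha

theorem E_le_range : D.E ≤ D.f.range := map_le_range _ _

theorem E_sq {x : G} (hx : x ∈ D.E) : x * x = 1 := by
  obtain ⟨i, a, ha, rfl⟩ := D.mem_E.1 hx
  rw [← map_mul, ← map_one D.f]
  congr 1
  ext1
  · exact (show ∀ i : Multiplicative (ZMod 2), i * i = 1 by decide) i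
  · exact V0_sq a ha

theorem E_comm {x y : G} (hx : x ∈ D.E) (hy : y ∈ D.E) : x * y = y * x := by
  obtain ⟨i, a, ha, rfl⟩ := D.mem_E.1 hx
  obtain ⟨j, b, hb, rfl⟩ := D.mem_E.1 hy
  rw [← map_mul, ← map_mul]
  congr 1
  ext1
  · exact mul_comm i j
  · exact V0_comm a b ha hb

theorem card_E : Nat.card D.E = 8 := by
  rw [E, Nat.card_congr (Subgroup.equivMapOfInjective _ _ D.f_inj).toEquiv.symm,
    Nat.card_congr (Subgroup.prodEquiv _ _).toEquiv, Nat.card_prod, card_V0, Subgroup.card_top]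
  simp [Nat.card_eq_fintype_card]

theorem card_range : Nat.card D.f.range = 120 := by
  rw [← Nat.card_congr (MonoidHom.ofInjective D.f_inj).toEquiv, Nat.card_prod,
    nat_card_alternatingGroup, Nat.card_fin]
  simp [Nat.card_eq_fintype_card]; rfl

theorem E_isPGroup : IsPGroup 2 D.E := IsPGroup.of_card (n := 3) (by rw [D.card_E]; rfl)

/-- The weak closure of `t` in `C(t)` is the whole of `Z₂ × A₅`. -/
theorem range_le_closure : D.f.range ≤ closure {x | x ∈ D.T ∧ x ∈ D.C} := by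
  set K := closure {x | x ∈ D.T ∧ x ∈ D.C} with hK
  have hCK : ∀ c ∈ D.C, ∀ k ∈ K, c * k * c⁻¹ ∈ K := by
    intro c hc k hk
    induction hk using closure_induction with
    | mem x hx => exact subset_closure ⟨D.conj_mem_T hx.1 c, D.C.mul_mem (D.C.mul_mem hc hx.2) (D.C.inv_mem hc)⟩
    | one => simp [K.one_mem]
    | mul x y _ _ hx hy => rw [← conj_mul]; exact K.mul_mem hx hy
    | inv x _ hx => rw [← conj_inv]; exact K.inv_mem hx
  let N : Subgroup A5 := K.comap D.iA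
  have hN : N.Normal := ⟨fun n hn c => by
    show D.iA (c * n * c⁻¹) ∈ K
    rw [map_mul, map_mul, map_inv]; exact hCK _ (D.iA_mem_C c) _ hn⟩
  obtain ⟨x, hxc, hxt⟩ := D.moved
  obtain ⟨⟨i, a⟩, hia⟩ := D.conj_mem x hxc
  have ht : D.t ∈ K := subset_closure ⟨D.t_mem_T, D.t_mem_C⟩
  have hxK : D.f (i, a) ∈ K := hia.symm ▸ subset_closure ⟨⟨x, rfl⟩, D.mem_C.2 hxc⟩
  have haN : a ∈ N := by
    show D.iA a ∈ K
    rcases D.f_eq i a with h | h
    · rwa [← h]
    · rw [h] at hxK; exact (K.mul_mem_cancel_left ht).1 hxK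
  have ha1 : a ≠ 1 := by
    rintro rfl
    rcases D.f_eq i 1 with h | h
    · rw [h, map_one] at hia
      exact D.t_ne (conj_eq_one_iff.1 hia.symm)
    · rw [h, map_one, mul_one] at hia
      exact hxt hia.symm
  haveI := alternatingGroup.isSimpleGroup_five
  have htop : N = ⊤ := hN.eq_bot_or_eq_top.resolve_left fun h => ha1 (by rw [h] at haN; simpa using haN)
  rintro _ ⟨⟨j, b⟩, rfl⟩
  have hb : D.iA b ∈ K := (htop ▸ mem_top b : b ∈ N)
  rcases D.f_eq j b with h | h <;> rw [h]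
  · exact hb
  · exact K.mul_mem ht hb

theorem conj_range {c : G} (hc : c ∈ D.C) {x : G} (hx : x ∈ D.f.range) : c * x * c⁻¹ ∈ D.f.range := by
  have h := D.range_le_closure hx
  induction h using closure_induction with
  | mem y hy => exact D.T_comm_mem (D.conj_mem_T hy.1 c) (D.C.mul_mem (D.C.mul_mem hc hy.2) (D.C.inv_mem hc))
  | one => simp
  | mul y z hy' hz' hy hz =>
    have hsub : closure {x | x ∈ D.T ∧ x ∈ D.C} ≤ D.f.range :=
      (closure_le _).2 fun w hw => D.T_comm_mem hw.1 hw.2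
    rw [← conj_mul]
    exact D.f.range.mul_mem (hy (hsub hy')) (hz (hsub hz'))
  | inv y hy' hy =>
    have hsub : closure {x | x ∈ D.T ∧ x ∈ D.C} ≤ D.f.range :=
      (closure_le _).2 fun w hw => D.T_comm_mem hw.1 hw.2
    rw [← conj_inv]
    exact D.f.range.inv_mem (hy (hsub hy'))

theorem A_eq_commutator : D.A = ⁅D.f.range, D.f.range⁆ := by
  refine le_antisymm ?_ (commutator_le.2 ?_)
  · have hA : D.A = Subgroup.map D.iA ⁅(⊤ : Subgroup A5), (⊤ : Subgroup A5)⁆ := by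
      rw [← _root_.commutator_def, A5_perfect, ← MonoidHom.range_eq_map]; rfl
    rw [hA, map_commutator]
    exact commutator_mono (by rintro _ ⟨a, -, rfl⟩; exact ⟨_, rfl⟩)
      (by rintro _ ⟨a, -, rfl⟩; exact ⟨_, rfl⟩)
  · rintro _ ⟨⟨i, a⟩, rfl⟩ _ ⟨⟨j, b⟩, rfl⟩
    refine ⟨a * b * a⁻¹ * b⁻¹, ?_⟩
    rw [← map_commutatorElement, iA_apply, commutatorElement_def]
    congr 1
    ext1
    · simp [mul_comm i j]
    · rfl

theorem conj_A {c : G} (hc : c ∈ D.C) {x : G} (hx : x ∈ D.A) : c * x * c⁻¹ ∈ D.A := by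
  rw [D.A_eq_commutator] at hx ⊢
  have : (⁅D.f.range, D.f.range⁆).map (MulAut.conj c).toMonoidHom ≤ ⁅D.f.range, D.f.range⁆ := by
    rw [map_commutator]
    exact commutator_mono (by rintro _ ⟨a, ha, rfl⟩; exact D.conj_range hc ha)
      (by rintro _ ⟨a, ha, rfl⟩; exact D.conj_range hc ha)
  exact this ⟨x, hx, rfl⟩

variable [Finite G]

theorem exists_sylow : ∃ S : Sylow 2 G, (S : Subgroup G) ≤ D.C ∧ D.E ≤ S := by
  haveI : Fact (Nat.Prime 2) := ⟨Nat.prime_two⟩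
  obtain ⟨-, P, -, hP⟩ := D.two_central
  have hPC : (P : Subgroup G) ≤ D.C := fun x hx => D.mem_C.2 (hP x hx)
  have hEC : D.E ≤ D.C := D.E_le_range.trans D.range_le_C
  obtain ⟨Q, hQ⟩ := (D.E_isPGroup.comap_of_injective D.C.subtype D.C.subtype_injective).exists_le_sylow
  obtain ⟨c, hc⟩ := MulAction.exists_smul_eq D.C (P.subtype hPC) Q
  refine ⟨(c : G) • P, ?_, ?_⟩
  · intro x hx
    rw [Sylow.coe_subgroup_smul, mem_pointwise_smul_iff_inv_smul_mem] at hx
    have h := hPC hx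
    rw [← map_inv, MulAut.smul_def, MulAut.conj_apply, inv_inv] at h
    have : x = (c : G) * ((c : G)⁻¹ * x * c) * (c : G)⁻¹ := by group
    rw [this]
    exact D.C.mul_mem (D.C.mul_mem c.2 h) (D.C.inv_mem c.2)
  · intro x hx
    have h : (⟨x, hEC hx⟩ : D.C) ∈ (Q : Subgroup D.C) := hQ hx
    rw [← hc, Sylow.coe_subgroup_smul, mem_pointwise_smul_iff_inv_smul_mem, Sylow.coe_subtype,
      mem_subgroupOf] at h
    rw [Sylow.coe_subgroup_smul, mem_pointwise_smul_iff_inv_smul_mem]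
    simpa using h

/-- A Sylow 2-subgroup of `G` inside `C(t)` containing `E`. -/
noncomputable def S : Sylow 2 G := D.exists_sylow.choose

theorem S_le_C : (D.S : Subgroup G) ≤ D.C := D.exists_sylow.choose_spec.1

theorem E_le_S : D.E ≤ D.S := D.exists_sylow.choose_spec.2

theorem range_inf_S : D.f.range ⊓ D.S = D.E := by
  haveI : Fact (Nat.Prime 2) := ⟨Nat.prime_two⟩
  refine (eq_of_le_of_card_ge (le_inf D.E_le_range D.E_le_S) ?_).symm
  obtain ⟨n, hn⟩ := (D.S.isPGroup'.to_le (inf_le_right : D.f.range ⊓ D.S ≤ _)).exists_card_eq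
  have hd : 2 ^ n ∣ 120 := hn ▸ D.card_range ▸ card_dvd_of_le inf_le_left
  rw [hn, D.card_E]
  by_contra h
  have : 2 ^ 4 ∣ 2 ^ n := Nat.pow_dvd_pow 2 (by
    by_contra h4
    have := Nat.pow_le_pow_right (show 2 > 0 by norm_num) (show n ≤ 3 by omega)
    omega)
  have := this.trans hd
  norm_num at this

theorem T_inter_S {x : G} (hx : x ∈ D.T) (hS : x ∈ (D.S : Subgroup G)) : x ∈ D.E := by
  rw [← D.range_inf_S]
  exact ⟨D.T_comm_mem hx (D.S_le_C hS), hS⟩

omit [Finite G] in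
/-- Conjugates of `t` in `E` outside `⟨t⟩`, one in each orbit of `g`. -/
theorem exists_class : ∃ j, ∀ b ∈ V0, b ≠ 1 → D.f (j, b) ∈ D.T := by
  obtain ⟨x, hxc, hxt⟩ := D.moved
  obtain ⟨⟨j, a⟩, hja⟩ := D.conj_mem x hxc
  have haT : D.f (j, a) ∈ D.T := hja.symm ▸ ⟨x, rfl⟩
  have ha2 : a * a = 1 := by
    have := D.T_sq haT
    rw [← map_mul, ← map_one D.f] at this
    simpa using congrArg Prod.snd (D.f_inj this)
  have hconj : ∀ c a' : A5, D.f (j, a') ∈ D.T → D.f (j, c * a' * c⁻¹) ∈ D.T := by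
    intro c a' h
    have := D.conj_mem_T h (D.f (1, c))
    rwa [← map_inv, ← map_mul, ← map_mul, Prod.inv_mk, Prod.mk_mul_mk, Prod.mk_mul_mk, inv_one,
      one_mul, mul_one] at this
  have ha1 : a ≠ 1 := by
    rintro rfl
    rcases D.f_eq j 1 with h | h
    · rw [h, map_one] at hja; exact D.t_ne (conj_eq_one_iff.1 hja.symm)
    · rw [h, map_one, mul_one] at hja; exact hxt hja.symm
  obtain ⟨c, hc⟩ := inv_conj_mem a ha2
  refine ⟨j, fun b hb hb1 => ?_⟩
  obtain ⟨i, hi⟩ := h3_orbit _ b hc (fun h => ha1 (conj_eq_one_iff.1 h)) hb hb1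
  exact hi ▸ hconj _ _ (hconj c a haT)

omit [Finite G] in
theorem E_le_closure_T : D.E ≤ closure (D.T ∩ D.E) := by
  set K := closure (D.T ∩ (D.E : Set G))
  obtain ⟨j, hj⟩ := D.exists_class
  have ht : D.t ∈ K := subset_closure ⟨D.t_mem_T, D.t_mem_E⟩
  have hjK : ∀ b ∈ V0, b ≠ 1 → D.f (j, b) ∈ K := fun b hb hb1 =>
    subset_closure ⟨hj b hb hb1, D.f_mem_E hb⟩
  have hA : ∀ b ∈ V0, D.iA b ∈ K := by
    intro b hb
    by_cases hb1 : b = 1
    · rw [hb1, map_one]; exact K.one_mem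
    · rcases D.f_eq j b with h | h
      · rw [← h]; exact hjK b hb hb1
      · have := hjK b hb hb1
        rw [h] at this
        exact (K.mul_mem_cancel_left ht).1 this
  intro x hx
  obtain ⟨i, a, ha, rfl⟩ := D.mem_E.1 hx
  rcases D.f_eq i a with h | h <;> rw [h]
  · exact hA a ha
  · exact K.mul_mem ht (hA a ha)

theorem T_inter_conj_S (h : G) {x : G} (hx : x ∈ D.T) (hS : x ∈ ((h • D.S : Sylow 2 G) : Subgroup G)) :
    h⁻¹ * x * h ∈ D.E := by
  rw [Sylow.coe_subgroup_smul, mem_pointwise_smul_iff_inv_smul_mem] at hS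
  have hxS : h⁻¹ * x * h ∈ (D.S : Subgroup G) := by simpa using hS
  exact D.T_inter_S (by simpa using D.conj_mem_T hx h⁻¹) hxS

/-- `E` is weakly closed. -/
theorem weakly_closed {P : Subgroup G} (hP : IsPGroup 2 P) (hEP : D.E ≤ P) {x : G}
    (hx : ∀ e ∈ D.E, x * e * x⁻¹ ∈ P) : x ∈ normalizer (D.E : Set G) := by
  haveI : Fact (Nat.Prime 2) := ⟨Nat.prime_two⟩
  obtain ⟨Q, hQ⟩ := hP.exists_le_sylow
  obtain ⟨h, rfl⟩ := MulAction.exists_smul_eq G D.S Q
  have key : ∀ y : G, (∀ e ∈ D.E, y * e * y⁻¹ ∈ ((h • D.S : Sylow 2 G) : Subgroup G)) →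
      D.E.map (MulAut.conj (h⁻¹ * y)).toMonoidHom = D.E := by
    intro y hy
    refine eq_of_le_of_card_ge ?_ (le_of_eq ?_)
    · rw [map_le_iff_le_comap]
      refine D.E_le_closure_T.trans ((closure_le _).2 ?_)
      rintro e ⟨heT, heE⟩
      show h⁻¹ * y * e * (h⁻¹ * y)⁻¹ ∈ D.E
      have := D.T_inter_conj_S h (D.conj_mem_T heT y) (hy e heE)
      convert this using 1
      group
    · exact (Nat.card_congr (equivMapOfInjective _ _ (MulEquiv.injective _)).toEquiv)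
  have h1 := key 1 fun e he => by simpa using hQ (hEP he)
  have h2 := key x fun e he => hQ (hx e he)
  have h3 : ∀ z : G, D.E.map (MulAut.conj z).toMonoidHom = D.E → z ∈ normalizer (D.E : Set G) := by
    intro z hz
    rw [mem_normalizer_iff]
    refine fun e => ⟨fun he => hz ▸ ⟨e, he, rfl⟩, fun he => ?_⟩
    rw [← hz] at he
    obtain ⟨e', he', hh⟩ := he
    have : e' = e := (MulAut.conj z).injective hh
    rwa [← this]
  have hh := h3 _ h1
  rw [mul_one] at hh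
  have := mul_mem ((normalizer _).inv_mem hh) (h3 _ h2)
  simpa using this

theorem S_le_normalizer : (D.S : Subgroup G) ≤ normalizer (D.E : Set G) := fun s hs =>
  D.weakly_closed D.S.isPGroup' D.E_le_S fun e he =>
    mul_mem (mul_mem hs (D.E_le_S he)) (inv_mem hs)

/-- Fusion of the conjugates of `t` in `E` is controlled by the normalizer of `E`. -/
theorem fusion {H : Subgroup G} (hEH : D.E ≤ H) {u u' h : G} (hu : u ∈ D.E) (hu' : u' ∈ D.E)
    (hh : h ∈ H) (e : h * u * h⁻¹ = u') :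
    ∃ n ∈ H, n ∈ normalizer (D.E : Set G) ∧ n * u * n⁻¹ = u' := by
  haveI : Fact (Nat.Prime 2) := ⟨Nat.prime_two⟩
  set K : Subgroup G := H ⊓ centralizer {u'} with hK
  have hEK : D.E ≤ K := le_inf hEH fun x hx => mem_centralizer_singleton_iff.2 (D.E_comm hx hu')
  let E2 : Subgroup G := D.E.map (MulAut.conj h).toMonoidHom
  have hEK2 : E2 ≤ K := by
    rintro _ ⟨x, hx, rfl⟩
    refine ⟨H.mul_mem (H.mul_mem hh (hEH hx)) (H.inv_mem hh), mem_centralizer_singleton_iff.2 ?_⟩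
    show h * x * h⁻¹ * u' = u' * (h * x * h⁻¹)
    rw [← e, conj_mul, conj_mul, D.E_comm hx hu]
  obtain ⟨P1, hP1⟩ := (D.E_isPGroup.comap_of_injective K.subtype K.subtype_injective).exists_le_sylow
  obtain ⟨P2, hP2⟩ :=
    ((D.E_isPGroup.map (MulAut.conj h).toMonoidHom).comap_of_injective K.subtype K.subtype_injective).exists_le_sylow
  obtain ⟨k, hk⟩ := MulAction.exists_smul_eq K P2 P1
  have hkK : (k : G) ∈ H ∧ (k : G) * u' = u' * k :=
    ⟨k.2.1, mem_centralizer_singleton_iff.1 k.2.2⟩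
  refine ⟨(k : G) * h, H.mul_mem hkK.1 hh, ?_, ?_⟩
  · refine D.weakly_closed (P := (P1 : Subgroup K).map K.subtype) (P1.isPGroup'.map _) ?_ ?_
    · exact fun x hx => ⟨⟨x, hEK hx⟩, hP1 hx, rfl⟩
    · intro x hx
      have hx2 : (⟨h * x * h⁻¹, hEK2 ⟨x, hx, rfl⟩⟩ : K) ∈ (P2 : Subgroup K) := hP2 ⟨x, hx, rfl⟩
      refine ⟨k * ⟨h * x * h⁻¹, hEK2 ⟨x, hx, rfl⟩⟩ * k⁻¹, ?_, by simp [mul_assoc]⟩
      rw [← hk, Sylow.coe_subgroup_smul, SetLike.mem_coe, mem_pointwise_smul_iff_inv_smul_mem]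
      simpa [mul_assoc] using hx2
  · rw [mul_inv_rev]
    calc (k : G) * h * u * (h⁻¹ * (k : G)⁻¹) = k * (h * u * h⁻¹) * (k : G)⁻¹ := by group
      _ = u' := by rw [e, hkK.2, mul_inv_cancel_right]

end Setup

end Cfsg.Agent.J1WeakClosure
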