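import Cfsg.Agent.Lib.J1WeakClosure.Core

/-!
# The case `G = ⟨N(E), C(t)⟩`: the normal closure of `t` is `J₁`
-/

set_option autoImplicit false

namespace Cfsg.Agent.J1WeakClosure

open Cfsg.Agent.HJType.AltFive (A5 v0 v1 h3)
open Subgroup

universe u

namespace Setup

variable {G : Type u} [Group G] [Finite G] (D : Setup G)

/-- The normal closure of `t`. -/
def N : Subgroup G := normalClosure ({D.t} : Set G)

instance : D.N.Normal := normalClosure_normal

omit [Finite G] in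
theorem t_mem_N : D.t ∈ D.N := subset_normalClosure rfl

omit [Finite G] in
theorem T_le_N {x : G} (hx : x ∈ D.T) : x ∈ D.N := by
  obtain ⟨g, rfl⟩ := hx
  exact (inferInstance : D.N.Normal).conj_mem _ D.t_mem_N g

omit [Finite G] in
theorem range_le_N : D.f.range ≤ D.N :=
  D.range_le_closure.trans ((closure_le _).2 fun _x hx => D.T_le_N hx.1)

theorem move_N : ∃ h ∈ D.N, h ∈ D.NE ∧ h * D.t ≠ D.t * h := by
  obtain ⟨m, hm, hme⟩ := D.transitive (D.iA_mem_E v0_mem) fun h => absurd (D.iA_eq_one h) (by decide +kernel)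
  refine ⟨m⁻¹ * D.g * m⁻¹⁻¹, (inferInstance : D.N.Normal).conj_mem _ (D.range_le_N ⟨_, rfl⟩) _,
    D.NE.mul_mem (D.NE.mul_mem (D.NE.inv_mem hm) D.g_mem_NE) (D.NE.inv_mem (D.NE.inv_mem hm)), fun h => ?_⟩
  have h2 : D.g * D.iA v0 = D.iA v0 * D.g := by
    rw [← hme]
    calc D.g * (m * D.t * m⁻¹) = m * ((m⁻¹ * D.g * m⁻¹⁻¹) * D.t) * m⁻¹ := by group
      _ = m * D.t * m⁻¹ * D.g := by rw [h]; group
  rw [g, ← map_mul, ← map_mul] at h2
  exact absurd (D.iA_inj h2) (by decide +kernel)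

/-- The hypothesis in the normal closure of `t`. -/
def subN : Setup D.N := D.sub D.N D.range_le_N D.move_N

theorem N_perfect : commutator D.N = ⊤ := by
  have hA : D.A ≤ ⁅D.N, D.N⁆ := D.A_eq_commutator.le.trans (commutator_mono D.range_le_N D.range_le_N)
  obtain ⟨m, -, hme⟩ := D.transitive (D.iA_mem_E v0_mem) fun h => absurd (D.iA_eq_one h) (by decide +kernel)
  have ht : D.t ∈ ⁅D.N, D.N⁆ := by
    have h1 := (commutator_normal D.N D.N).conj_mem _ (hA (D.mem_A v0)) m⁻¹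
    rw [← hme] at h1
    simpa [mul_assoc] using h1
  have hN : D.N ≤ ⁅D.N, D.N⁆ := by
    haveI := commutator_normal D.N D.N
    exact normalClosure_le_normal (Set.singleton_subset_iff.2 ht)
  apply Subgroup.map_injective D.N.subtype_injective
  rw [_root_.commutator_def, map_commutator, ← MonoidHom.range_eq_map, Subgroup.range_subtype]
  exact le_antisymm (commutator_le_left _ _) hN

theorem mem_subN_T {x : D.N} (hx : x ∈ D.subN.T) : (x : G) ∈ D.T := by
  obtain ⟨g, hg⟩ := hx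
  exact ⟨g, congrArg Subtype.val hg⟩

theorem N_involutions : closure {x : D.N | x * x = 1} = ⊤ := by
  apply Subgroup.map_injective D.N.subtype_injective
  rw [← MonoidHom.range_eq_map, Subgroup.range_subtype]
  refine le_antisymm (map_subtype_le _) ?_
  rw [N]
  refine (closure_le _).2 fun x hx => ?_
  obtain ⟨a, ha, hax⟩ := Group.mem_conjugatesOfSet_iff.1 hx
  rw [Set.mem_singleton_iff] at ha
  obtain ⟨g, hg⟩ := isConj_iff.1 (ha ▸ hax)
  have hxT : x ∈ D.T := ⟨g, hg⟩
  exact ⟨⟨x, D.T_le_N hxT⟩, subset_closure (Subtype.ext (D.T_sq hxT)), rfl⟩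

variable (hgen : D.Generated)

include hgen in
theorem R_normal : D.R.Normal := by
  have h1 : D.M ≤ normalizer (D.R : Set G) := by
    have hn : ∀ x : G, (∀ r ∈ D.R, x * r * x⁻¹ ∈ D.R) → x ∈ normalizer (D.R : Set G) := by
      intro x hx
      have hle : D.R.map (MulAut.conj x).toMonoidHom ≤ D.R := by
        rintro _ ⟨r, hr, rfl⟩; exact hx r hr
      have heq := eq_of_le_of_card_ge hle (le_of_eq
        (Nat.card_congr (equivMapOfInjective D.R (MulAut.conj x).toMonoidHom (MulAut.conj x).injective).toEquiv))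
      rw [mem_normalizer_iff]
      refine fun r => ⟨hx r, fun hr => ?_⟩
      rw [← heq] at hr
      obtain ⟨r', hr', hh⟩ := hr
      rwa [← (MulAut.conj x).injective hh]
    refine sup_le (fun n hn' => hn n fun r hr => D.NE_conj_R hn' hr) fun c hc => ?_
    obtain ⟨a, y, hy, rfl⟩ := D.C_decomp hc
    refine hn _ fun r hr => ?_
    have h2 := D.NE_conj_R (D.CE_le_NE (D.Y_le_CE hy)) hr
    have h3 := D.Y_comm_A (D.R_le_Y h2) a
    have : D.iA a * y * r * (D.iA a * y)⁻¹ = D.iA a * (y * r * y⁻¹) * (D.iA a)⁻¹ := by group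
    rw [this, h3, mul_inv_cancel_right]
    exact h2
  exact normalizer_eq_top_iff.1 (top_le_iff.1 (hgen ▸ h1))

include hgen in
theorem N_centralizes_R {r x : G} (hr : r ∈ D.R) (hx : x ∈ D.N) : r * x = x * r := by
  haveI := D.R_normal hgen
  have h : D.N ≤ centralizer (D.R : Set G) := normalClosure_le_normal
    (Set.singleton_subset_iff.2 (mem_centralizer_iff.2 fun r hr => ((D.R_comm_E hr D.t_mem_E)).symm))
  exact mem_centralizer_iff.1 (h hx) r hr

include hgen in
theorem subN_R_le : D.subN.R ≤ center D.N := by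
  refine (closure_le _).2 ?_
  rintro _ ⟨c, hc, rfl⟩
  have hcE : (c : G) ∈ D.CE := D.mem_CE_of_conj fun e he => by
    have := D.subN.CE_conj hc (e := ⟨e, D.range_le_N (D.E_le_range he)⟩)
      ((D.mem_sub_E D.N D.range_le_N D.move_N).2 he)
    exact congrArg Subtype.val this
  exact mem_center_iff.2 fun x => Subtype.ext
    (D.N_centralizes_R hgen (D.sq_mem_R hcE) x.2).symm

variable (hrec : RecJ1.{u})

include hgen hrec in
theorem top_N : Nat.card D.N = 175560 ∧ IsSimpleGroup D.N ∧ Cfsg.Spor.IsoJ1 D.N ∧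
    ∀ c ∈ D.C, c ∈ D.N → c ∈ D.f.range := by
  obtain ⟨h1, h2, h3, h4⟩ := D.subN.core D.N_perfect (D.subN_R_le hgen) D.N_involutions hrec
  refine ⟨h1, h2, h3, fun c hc hcN => ?_⟩
  obtain ⟨x, hx⟩ := h4 ⟨c, hcN⟩ (D.subN.mem_C.2 (Subtype.ext (D.mem_C.1 hc)))
  exact ⟨x, congrArg Subtype.val hx⟩

include hgen in
theorem T_conj_N {u : G} (hu : u ∈ D.T) : ∃ n ∈ D.N, n * D.t * n⁻¹ = u := by
  have hne : u ≠ 1 := by
    obtain ⟨g, rfl⟩ := hu
    exact fun h => D.t_ne (conj_eq_one_iff.1 h)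
  obtain ⟨n, hn⟩ := D.subN.involution_mem_T D.N_perfect (D.subN_R_le hgen) (x := ⟨u, D.T_le_N hu⟩)
    (Subtype.ext (D.T_sq hu)) fun h => hne (congrArg Subtype.val h)
  exact ⟨n, n.2, congrArg Subtype.val hn⟩

include hgen hrec in
theorem card_T : Nat.card D.T = 1463 := by
  have h := HallJankoType.card_orbit_mul D.N D.t
  have h2 : D.N ⊓ centralizer {D.t} = D.f.range :=
    le_antisymm (fun c hc => (D.top_N hgen hrec).2.2.2 c hc.2 hc.1) (le_inf D.range_le_N D.range_le_C)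
  rw [h2, D.card_range, (D.top_N hgen hrec).1] at h
  have e : Nat.card D.T = Nat.card {v : G // ∃ n ∈ D.N, n * D.t * n⁻¹ = v} := by
    refine Nat.card_congr (Equiv.subtypeEquivRight fun v => ⟨fun hv => D.T_conj_N hgen hv, ?_⟩)
    rintro ⟨n, -, rfl⟩; exact ⟨n, rfl⟩
  rw [e]
  omega

include hgen in
theorem sq_mem_N_sup (x : G) : x * x ∈ D.N ⊔ centralizer (D.N : Set G) := by
  obtain ⟨n, hn, hne⟩ := D.T_conj_N hgen ⟨x, rfl⟩
  have hc : n⁻¹ * x ∈ D.C := D.mem_C.2 (by
    calc n⁻¹ * x * D.t = n⁻¹ * (x * D.t * x⁻¹) * x := by group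
      _ = D.t * (n⁻¹ * x) := by rw [← hne]; group)
  obtain ⟨a, y, hy, hay⟩ := D.C_decomp hc
  set n' := n * D.iA a
  have hn' : n' ∈ D.N := D.N.mul_mem hn (D.range_le_N ⟨_, rfl⟩)
  have hx : x = n' * y := by
    calc x = n * (n⁻¹ * x) := by group
      _ = n' * y := by rw [hay, mul_assoc]
  have h1 : x * x = n' * (y * n' * y⁻¹) * (y * y) := by rw [hx]; group
  rw [h1]
  refine mul_mem (mem_sup_left (D.N.mul_mem hn' ((inferInstance : D.N.Normal).conj_mem _ hn' y))) (mem_sup_right ?_)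
  exact mem_centralizer_iff.2 fun z hz => (D.N_centralizes_R hgen (D.sq_mem_R (D.Y_le_CE hy)) hz).symm

include hgen in
theorem odd_mem_N_sup {x : G} (hx : Odd (orderOf x)) : x ∈ D.N ⊔ centralizer (D.N : Set G) := by
  obtain ⟨k, hk⟩ := hx
  have h : x = (x * x) ^ (k + 1) := by
    rw [← pow_two, ← pow_mul, show 2 * (k + 1) = orderOf x + 1 by omega, pow_succ, pow_orderOf_eq_one, one_mul]
  rw [h]
  exact pow_mem (D.sq_mem_N_sup hgen x) _

end Setup

end Cfsg.Agent.J1WeakClosure
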